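import Groth.Prelude.Def_W4c1limliniiiiRamP1
import Mathlib.RingTheory.Coprime.Lemmas
import Mathlib.LinearAlgebra.FiniteDimensional.Basic
import Mathlib.Algebra.CharP.Basic
import Mathlib.Algebra.Polynomial.RingDivision
import Mathlib.Tactic

/-! Pencils with prescribed ramification: the Wronskian argument. -/

set_option autoImplicit false
set_option linter.unusedSectionVars false

universe u

namespace Groth.L13.RamP1

open Polynomial W4c1limliniiii

variable {k : Type u} [Field k]

theorem natDegree_le_of_mem {d : ℕ} {s : k[X]} (h : s ∈ degreeLE k (d : WithBot ℕ)) : s.natDegree ≤ d :=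
  natDegree_le_iff_degree_le.2 (mem_degreeLE.1 h)

theorem mem_degreeLE_of {d : ℕ} {s : k[X]} (h : s.natDegree ≤ d) : s ∈ degreeLE k (d : WithBot ℕ) :=
  mem_degreeLE.2 (natDegree_le_iff_degree_le.1 h)

theorem pow_dvd_of_le {a : k} {s : k[X]} {m : ℕ} (h : m ≤ rootMultiplicity a s) : (X - C a) ^ m ∣ s :=
  (pow_dvd_pow _ h).trans (pow_rootMultiplicity_dvd s a)

theorem le_of_pow_dvd {a : k} {s : k[X]} (hs : s ≠ 0) {m : ℕ} (h : (X - C a) ^ m ∣ s) :
    m ≤ rootMultiplicity a s :=
  (le_rootMultiplicity_iff hs).2 h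

theorem pow_sub_one_dvd_derivative {a : k} {s : k[X]} {m : ℕ} (h : (X - C a) ^ m ∣ s) :
    (X - C a) ^ (m - 1) ∣ derivative s := by
  obtain ⟨r, rfl⟩ := h
  rw [derivative_mul]
  refine dvd_add (Dvd.dvd.mul_right ?_ r) ((pow_dvd_pow _ (Nat.sub_le m 1)).mul_right _)
  rw [derivative_pow]
  exact (Dvd.dvd.mul_left dvd_rfl _).mul_right _

theorem dvd_wronskian_of_left {a : k} {s t : k[X]} {m : ℕ} (hs : (X - C a) ^ m ∣ s) :
    (X - C a) ^ (m - 1) ∣ wronskian s t :=
  dvd_sub (((pow_dvd_pow _ (Nat.sub_le m 1)).trans hs).mul_right _) ((pow_sub_one_dvd_derivative hs).mul_right _)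

theorem dvd_wronskian_of_both {a : k} {s t : k[X]} {m : ℕ} (hs : (X - C a) ^ m ∣ s) (ht : (X - C a) ∣ t) :
    (X - C a) ^ m ∣ wronskian s t := by
  refine dvd_sub (hs.mul_right _) ?_
  rcases Nat.eq_zero_or_pos m with h | h
  · simp [h]
  · conv_lhs => rw [show m = (m - 1) + 1 by omega, pow_succ]
    exact mul_dvd_mul (pow_sub_one_dvd_derivative hs) ht

theorem exists_smul_wronskian {F G s t : k[X]} (hs : s ∈ Submodule.span k {F, G}) (ht : t ∈ Submodule.span k {F, G}) :
    ∃ c : k, wronskian s t = C c * wronskian F G := by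
  obtain ⟨a, b, rfl⟩ := Submodule.mem_span_pair.1 hs
  obtain ⟨a', b', rfl⟩ := Submodule.mem_span_pair.1 ht
  refine ⟨a * b' - b * a', ?_⟩
  simp only [wronskian, smul_eq_C_mul, derivative_add, derivative_C_mul, map_sub, map_mul]
  ring

theorem exists_second {V : Submodule k k[X]} (hV : Module.finrank k V = 2) {s : k[X]} (hsV : s ∈ V) (hs : s ≠ 0) :
    ∃ t ∈ V, V = Submodule.span k {s, t} := by
  have : FiniteDimensional k V := Module.finite_of_finrank_eq_succ hV
  have hlt : ¬ V ≤ Submodule.span k {s} := fun h => by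
    have := Submodule.finrank_mono h
    rw [hV, finrank_span_singleton hs] at this
    omega
  obtain ⟨t, htV, ht⟩ := SetLike.not_le_iff_exists.1 hlt
  have hfin : FiniteDimensional k (Submodule.span k ({s, t} : Set k[X])) := FiniteDimensional.span_of_finite k (Set.toFinite _)
  refine ⟨t, htV, (Submodule.eq_of_le_of_finrank_le (Submodule.span_le.2 (by
    rintro x (rfl | rfl)
    · exact hsV
    · exact htV)) ?_).symm⟩
  rw [hV]
  have h1 : Submodule.span k {s} < Submodule.span k ({s, t} : Set k[X]) :=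
    lt_of_le_not_ge (Submodule.span_mono (by simp)) fun h => ht (h (Submodule.subset_span (by simp)))
  have h2 := Submodule.finrank_lt_finrank_of_lt h1
  rw [finrank_span_singleton hs] at h2
  omega

theorem isSeparable_iff {F G : k[X]} :
    IsSeparable (Submodule.span k {F, G}) ↔ wronskian F G ≠ 0 := by
  refine ⟨?_, fun h => ⟨F, Submodule.subset_span (by simp), G, Submodule.subset_span (by simp), h⟩⟩
  rintro ⟨s, hs, t, ht, h⟩ h0
  obtain ⟨c, hc⟩ := exists_smul_wronskian hs ht
  rw [h0, mul_zero] at hc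
  exact h hc

theorem finrank_span_pair_of_wronskian {F G : k[X]} (h : wronskian F G ≠ 0) :
    Module.finrank k (Submodule.span k {F, G}) = 2 := by
  have hli : LinearIndependent k ![F, G] := by
    rw [LinearIndependent.pair_iff]
    intro a b hab
    have h1 := congrArg (fun p => wronskian p G) hab
    have h2 := congrArg (fun p => wronskian F p) hab
    simp only [wronskian, smul_eq_C_mul, derivative_add, derivative_C_mul, derivative_zero, mul_zero, zero_mul, sub_zero] at h1 h2
    constructor
    · have h3 : C a * wronskian F G = 0 := by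
        rw [wronskian]; linear_combination h1
      exact C_eq_zero.1 ((mul_eq_zero.1 h3).resolve_right h)
    · have h3 : C b * wronskian F G = 0 := by
        rw [wronskian]; linear_combination h2
      exact C_eq_zero.1 ((mul_eq_zero.1 h3).resolve_right h)
  have := finrank_span_eq_card hli
  rw [Matrix.range_cons_cons_empty, Fintype.card_fin] at this
  exact this

theorem natDegree_wronskian_le {d : ℕ} {V : Submodule k k[X]} (hV : V ≤ degreeLE k (d : WithBot ℕ)) {F G : k[X]}
    (hF : F ∈ V) (hG : G ∈ V) :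
    (wronskian F G).natDegree ≤ 2 * d - 2 ∧
      ((∀ s ∈ V, s.natDegree ≠ d) → wronskian F G ≠ 0 → (wronskian F G).natDegree + 3 ≤ 2 * d) := by
  have hFd := natDegree_le_of_mem (hV hF)
  have hGd := natDegree_le_of_mem (hV hG)
  rcases Nat.eq_zero_or_pos d with hd | hd
  · obtain ⟨a, rfl⟩ : ∃ a, F = C a := ⟨_, eq_C_of_natDegree_eq_zero (by omega)⟩
    obtain ⟨b, rfl⟩ : ∃ b, G = C b := ⟨_, eq_C_of_natDegree_eq_zero (by omega)⟩
    simp [wronskian]
  constructor
  · by_cases hw : wronskian F G = 0
    · simp [hw]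
    have hlt := natDegree_wronskian_lt_add hw
    by_cases hFd' : F.natDegree = d
    · have hlead : F.coeff d ≠ 0 := hFd' ▸ (by
        rw [← leadingCoeff]; exact leadingCoeff_ne_zero.2 fun h => hw (by rw [h, wronskian_zero_left]))
      let G' := G - C (G.coeff d / F.coeff d) * F
      have hw' : wronskian F G = wronskian F G' := by
        simp only [G', wronskian, derivative_sub, derivative_C_mul]; ring
      have hG' : G'.natDegree ≤ d - 1 := by
        rw [natDegree_le_iff_coeff_eq_zero]
        intro N hN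
        simp only [G', coeff_sub, coeff_C_mul]
        rcases Nat.eq_or_lt_of_le (show d ≤ N by omega) with rfl | hN'
        · field_simp; ring
        · rw [coeff_eq_zero_of_natDegree_lt (lt_of_le_of_lt hGd hN'), coeff_eq_zero_of_natDegree_lt (lt_of_le_of_lt hFd hN')]
          ring
      rw [hw'] at hw ⊢
      have := natDegree_wronskian_lt_add hw
      omega
    · omega
  · intro hall hw
    have h1 : F.natDegree < d := lt_of_le_of_ne hFd (hall F hF)
    have h2 : G.natDegree < d := lt_of_le_of_ne hGd (hall G hG)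
    have := natDegree_wronskian_lt_add hw
    omega

/-- the ramification divisor -/
noncomputable def ramPoly {n : ℕ} (P : Fin n → k) (e : Fin n → ℕ) : k[X] := ∏ i, (X - C (P i)) ^ (e i - 1)

theorem natDegree_ramPoly {n : ℕ} (P : Fin n → k) (e : Fin n → ℕ) :
    (ramPoly P e).natDegree = ∑ i, (e i - 1) := by
  rw [ramPoly, natDegree_prod_of_monic _ _ fun i _ => (monic_X_sub_C _).pow _]
  simp

theorem ramPoly_ne_zero {n : ℕ} (P : Fin n → k) (e : Fin n → ℕ) : ramPoly P e ≠ 0 :=
  Finset.prod_ne_zero_iff.2 fun _ _ => pow_ne_zero _ (X_sub_C_ne_zero _)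

theorem sum_sub_one {p d n : ℕ} {e : Fin n → ℕ} (he : Admissible p d e) : (∑ i, (e i - 1)) + 2 = 2 * d := by
  have h1 : ∑ i, (e i - 1) + n = ∑ i, e i := by
    calc ∑ i, (e i - 1) + n = ∑ i, (e i - 1) + ∑ _i : Fin n, 1 := by simp
      _ = ∑ i, e i := by
        rw [← Finset.sum_add_distrib]
        exact Finset.sum_congr rfl fun i _ => by have := (he.1 i).1; omega
  have := he.2
  omega

theorem not_dvd_ramPoly {n : ℕ} (P : Fin n → k) (hP : Function.Injective P) (e : Fin n → ℕ) (i : Fin n) :
    ¬ (X - C (P i)) ^ (e i - 1 + 1) ∣ ramPoly P e := by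
  classical
  intro h
  rw [ramPoly, ← Finset.mul_prod_erase _ _ (Finset.mem_univ i), pow_succ,
    mul_dvd_mul_iff_left (pow_ne_zero _ (X_sub_C_ne_zero _)), dvd_iff_isRoot, IsRoot, eval_prod, Finset.prod_eq_zero_iff] at h
  obtain ⟨j, hj, h⟩ := h
  rw [eval_pow, eval_sub, eval_X, eval_C] at h
  exact (Finset.mem_erase.1 hj).1 (hP (sub_eq_zero.1 (eq_zero_of_pow_eq_zero h)).symm)

theorem ramPoly_dvd_wronskian {n : ℕ} (P : Fin n → k) (hP : Function.Injective P) (e : Fin n → ℕ)
    {V : Submodule k k[X]} (hV : Module.finrank k V = 2) {F G : k[X]} (hVs : V = Submodule.span k {F, G})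
    (hram : ∀ i, ∃ s ∈ V, s ≠ 0 ∧ e i ≤ rootMultiplicity (P i) s) : ramPoly P e ∣ wronskian F G := by
  refine Finset.prod_dvd_of_coprime (fun i _ j _ hij => ?_) fun i _ => ?_
  · exact (isCoprime_X_sub_C_of_isUnit_sub ((sub_ne_zero.2 fun h => hij (hP h)).isUnit)).pow
  · obtain ⟨s, hsV, hs, hes⟩ := hram i
    obtain ⟨t, htV, hVt⟩ := exists_second hV hsV hs
    obtain ⟨c, hc⟩ := exists_smul_wronskian (F := s) (G := t)
      (hVt ▸ hVs ▸ Submodule.subset_span (by simp) : F ∈ Submodule.span k {s, t})
      (hVt ▸ hVs ▸ Submodule.subset_span (by simp) : G ∈ Submodule.span k {s, t})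
    rw [hc]
    exact (dvd_wronskian_of_left (pow_dvd_of_le hes)).mul_left _

/-- a separable pencil with at least the prescribed ramification has exactly it -/
theorem mem_ramMaps_of_separable [IsAlgClosed k] {p d n : ℕ} {e : Fin n → ℕ} (he : Admissible p d e)
    {P : Fin n → k} (hP : Function.Injective P) {V : Submodule k k[X]} (hV : V ≤ degreeLE k (d : WithBot ℕ))
    (hrk : Module.finrank k V = 2) (hsep : IsSeparable V)
    (hram : ∀ i, ∃ s ∈ V, s ≠ 0 ∧ e i ≤ rootMultiplicity (P i) s) : V ∈ ramMaps d P e := by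
  classical
  obtain ⟨F₀, hF₀, G₀, hG₀, hw0⟩ := id hsep
  obtain ⟨t, -, hVs⟩ := exists_second hrk hF₀ (fun h => hw0 (by rw [h, wronskian_zero_left]))
  rw [hVs] at hsep
  have hw := isSeparable_iff.1 hsep
  have hsum := sum_sub_one he
  obtain ⟨c, hc⟩ := ramPoly_dvd_wronskian P hP e hrk hVs hram
  have hFV : F₀ ∈ V := hF₀
  have htV : t ∈ V := hVs ▸ Submodule.subset_span (by simp)
  obtain ⟨hle, hlt⟩ := natDegree_wronskian_le hV hFV htV
  have hc0 : c ≠ 0 := fun h => hw (by rw [hc, h, mul_zero])
  have hdeg : (wronskian F₀ t).natDegree = ∑ i, (e i - 1) + c.natDegree := by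
    rw [hc, natDegree_mul (ramPoly_ne_zero P e) hc0, natDegree_ramPoly]
  obtain ⟨γ, rfl⟩ : ∃ γ, c = C γ := ⟨_, eq_C_of_natDegree_eq_zero (by omega)⟩
  have hγ : γ ≠ 0 := fun h => hc0 (by rw [h, map_zero])
  have key : ∀ i, ∀ s ∈ V, s ≠ 0 → ∀ r ∈ V, r ∉ Submodule.span k {s} → ¬ (X - C (P i)) ^ (e i - 1 + 1) ∣ wronskian s r := by
    intro i s hs hs0 r hr hrs h
    obtain ⟨a, ha⟩ := exists_smul_wronskian (F := F₀) (G := t) (hVs ▸ hs : s ∈ Submodule.span k {F₀, t}) (hVs ▸ hr : r ∈ _)
    have hne : wronskian s r ≠ 0 := by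
      refine isSeparable_iff.1 ?_
      have : V = Submodule.span k {s, r} := by
        have hfin : FiniteDimensional k V := Module.finite_of_finrank_eq_succ hrk
        refine (Submodule.eq_of_le_of_finrank_le (Submodule.span_le.2 (by
          rintro x (rfl | rfl)
          · exact hs
          · exact hr)) ?_).symm
        have hli : LinearIndependent k ![s, r] := by
          rw [LinearIndependent.pair_iff' hs0]
          exact fun a h => hrs (Submodule.mem_span_singleton.2 ⟨a, h⟩)
        have h2 := finrank_span_eq_card hli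
        rw [hrk]
        rw [Matrix.range_cons_cons_empty, Fintype.card_fin] at h2
        omega
      rw [← this, hVs]
      exact hsep
    rw [ha, hc] at h hne
    have ha0 : a ≠ 0 := fun h0 => hne (by rw [h0, map_zero, zero_mul])
    rw [← mul_assoc, mul_comm (C a) _, mul_assoc, ← map_mul] at h
    exact not_dvd_ramPoly P hP e i ((IsUnit.dvd_mul_right (isUnit_C.2 (mul_ne_zero ha0 hγ).isUnit)).1 h)
  refine ⟨⟨hV, hrk, ?_, ?_⟩, hVs ▸ hsep, fun i => ⟨hram i, fun s hs hs0 => ?_⟩⟩
  · by_contra hall
    push Not at hall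
    have := hlt hall hw
    omega
  · intro a
    by_contra hall
    push Not at hall
    have hroot : ∀ s ∈ V, (X - C a) ∣ s := fun s hs => dvd_iff_isRoot.2 (hall s hs)
    by_cases ha : ∃ i, P i = a
    · obtain ⟨i, rfl⟩ := ha
      obtain ⟨s, hs, hs0, hes⟩ := hram i
      obtain ⟨r, hr, hVr⟩ := exists_second hrk hs hs0
      refine key i s hs hs0 r hr ?_ ?_
      · intro h
        have h2 : V ≤ Submodule.span k {s} := hVr ▸ Submodule.span_le.2 (by
          rintro x (rfl | rfl)
          · exact Submodule.mem_span_singleton_self _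
          · exact h)
        have := Submodule.finrank_mono h2
        rw [hrk, finrank_span_singleton hs0] at this
        omega
      · have he2 := (he.1 i).1
        rw [show e i - 1 + 1 = e i by omega]
        exact dvd_wronskian_of_both (pow_dvd_of_le hes) (hroot r hr)
    · have h : (X - C a) ∣ wronskian F₀ t := by
        simpa using dvd_wronskian_of_both (m := 1) (by simpa using hroot F₀ hFV) (hroot t htV)
      rw [hc, dvd_iff_isRoot, IsRoot, eval_mul, eval_C, mul_eq_zero] at h
      rw [ramPoly, eval_prod, Finset.prod_eq_zero_iff] at h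
      rcases h with ⟨i, -, h⟩ | h
      · rw [eval_pow, eval_sub, eval_X, eval_C] at h
        exact ha ⟨i, (sub_eq_zero.1 (eq_zero_of_pow_eq_zero h)).symm⟩
      · exact hγ h
  · by_contra hgt
    push Not at hgt
    obtain ⟨r, hr, hVr⟩ := exists_second hrk hs hs0
    refine key i s hs hs0 r hr ?_ ?_
    · intro h
      have h2 : V ≤ Submodule.span k {s} := hVr ▸ Submodule.span_le.2 (by
        rintro x (rfl | rfl)
        · exact Submodule.mem_span_singleton_self _
        · exact h)
      have := Submodule.finrank_mono h2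
      rw [hrk, finrank_span_singleton hs0] at this
      omega
    · have he2 := (he.1 i).1
      have := dvd_wronskian_of_left (t := r) (pow_dvd_of_le (show e i + 1 ≤ rootMultiplicity (P i) s by omega))
      rwa [show e i - 1 + 1 = e i + 1 - 1 by omega]

theorem exists_of_mem {k : Type u} [Field k] {n : ℕ} {P : Fin n → k} {e : Fin n → ℕ} {V : Submodule k k[X]} {d : ℕ}
    (h : V ∈ ramMaps d P e) (i : Fin n) : ∃ s ∈ V, s ≠ 0 ∧ e i ≤ rootMultiplicity (P i) s :=
  (h.2.2 i).1

end Groth.L13.RamP1
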