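import Mathlib.RingTheory.Nullstellensatz
import Mathlib.RingTheory.MvPolynomial.Homogeneous
import Mathlib.LinearAlgebra.Dimension.Finite
import Mathlib.Algebra.Polynomial.Roots
import Mathlib.Tactic

/-! A hyperplane section of a cone missing the vertex hyperplane is finite. -/

set_option autoImplicit false

universe u v

namespace Groth.L13.RamP1

open MvPolynomial

variable {k : Type u} [Field k] {σ : Type v}

theorem eval_smul_of_isHomogeneous [Fintype σ] {φ : MvPolynomial σ k} {n : ℕ} (hφ : φ.IsHomogeneous n) (c : k) (x : σ → k) :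
    eval (c • x) φ = c ^ n * eval x φ := by
  rw [eval_eq', eval_eq', Finset.mul_sum]
  refine Finset.sum_congr rfl fun d hd => ?_
  have hdeg : Finsupp.degree d = n := by
    have := hφ (mem_support_iff.1 hd)
    rw [Finsupp.degree_eq_weight_one]; exact this
  rw [Finsupp.degree_eq_sum] at hdeg
  simp only [Pi.smul_apply, smul_eq_mul, mul_pow, Finset.prod_mul_distrib, Finset.prod_pow_eq_pow_sum, hdeg]
  ring

/-- separated points give independent functions -/
theorem finite_of_spanning [Finite σ] (S : Set (σ → k)) (E : Finset (σ →₀ ℕ))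
    (h : ∀ d : σ →₀ ℕ, ∃ c : (σ →₀ ℕ) → k, ∀ x ∈ S, eval x (monomial d (1 : k)) = ∑ e ∈ E, c e * eval x (monomial e (1 : k))) :
    S.Finite := by
  classical
  by_contra hinf
  obtain ⟨T, hT, hcard⟩ := Set.Infinite.exists_subset_card_eq hinf (E.card + 1)
  let Φ : (E → k) →ₗ[k] (T → k) :=
    { toFun := fun c t => ∑ e : E, c e * eval (t : σ → k) (monomial (e : σ →₀ ℕ) (1 : k))
      map_add' := fun c c' => funext fun t => by simp [add_mul, Finset.sum_add_distrib]
      map_smul' := fun a c => funext fun t => by simp [Finset.mul_sum, mul_assoc] }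
  have hmono : ∀ f : MvPolynomial σ k, (fun t : T => eval (t : σ → k) f) ∈ LinearMap.range Φ := by
    intro f
    induction f using MvPolynomial.induction_on' with
    | monomial d a =>
      obtain ⟨c, hc⟩ := h d
      refine ⟨fun e => a * c e, funext fun t => ?_⟩
      show ∑ e : E, a * c e * eval (t : σ → k) (monomial (e : σ →₀ ℕ) (1 : k)) = _
      rw [show monomial d a = C a * monomial d (1 : k) by rw [C_mul_monomial, mul_one], eval_mul, eval_C, hc t (hT t.2), Finset.mul_sum,
        ← Finset.sum_coe_sort E (fun e => a * (c e * eval (t : σ → k) (monomial e (1 : k))))]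
      exact Finset.sum_congr rfl fun e _ => mul_assoc _ _ _
    | add f g hf hg =>
      have e : (fun t : T => eval (t : σ → k) (f + g)) = (fun t : T => eval (t : σ → k) f) + (fun t : T => eval (t : σ → k) g) :=
        funext fun t => map_add _ _ _
      rw [e]
      exact add_mem hf hg
  have hsurj : Function.Surjective Φ := by
    rw [← LinearMap.range_eq_top, eq_top_iff]
    intro v _
    have hδ : ∀ y : T, ∃ f : MvPolynomial σ k, ∀ t : T, eval (t : σ → k) f = if t = y then 1 else 0 := by
      intro y
      have hsep : ∀ t : T, t ≠ y → ∃ i, (t : σ → k) i ≠ (y : σ → k) i := fun t ht =>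
        Function.ne_iff.1 fun h => ht (Subtype.ext h)
      choose i hi using hsep
      refine ⟨∏ t ∈ (Finset.univ.erase y).attach, C (((y : σ → k) (i t.1 (Finset.mem_erase.1 t.2).1) - (t.1 : σ → k) (i t.1 (Finset.mem_erase.1 t.2).1))⁻¹) * (X (i t.1 (Finset.mem_erase.1 t.2).1) - C ((t.1 : σ → k) (i t.1 (Finset.mem_erase.1 t.2).1))), fun t => ?_⟩
      rw [eval_prod]
      split_ifs with hty
      · subst hty
        refine Finset.prod_eq_one fun z hz => ?_
        rw [eval_mul, eval_C, eval_sub, eval_X, eval_C, inv_mul_cancel₀]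
        exact sub_ne_zero.2 fun h => hi z.1 (Finset.mem_erase.1 z.2).1 h.symm
      · exact Finset.prod_eq_zero (Finset.mem_attach _ ⟨t, Finset.mem_erase.2 ⟨hty, Finset.mem_univ _⟩⟩) (by simp)
    choose f hf using hδ
    have hv : v = fun t : T => eval (t : σ → k) (∑ y : T, C (v y) * f y) := funext fun t => by
      simp [hf]
    rw [hv]
    exact hmono _
  have := LinearMap.finrank_le_finrank_of_surjective (f := Φ) hsurj
  simp only [Module.finrank_fintype_fun_eq_card, Fintype.card_coe, hcard] at this
  omega

/-- the slice of a cone -/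
theorem finite_slice [IsAlgClosed k] [Finite σ] {ι : Type*} (g : ι → MvPolynomial σ k) (dg : ι → ℕ)
    (hg : ∀ j, (g j).IsHomogeneous (dg j)) (ℓ : MvPolynomial σ k) (hℓ : ℓ.IsHomogeneous 1)
    (hzero : ∀ x : σ → k, (∀ j, eval x (g j) = 0) → eval x ℓ = 0 → x = 0) :
    {x : σ → k | (∀ j, eval x (g j) = 0) ∧ eval x ℓ = 1}.Finite := by
  classical
  cases nonempty_fintype σ
  set S := {x : σ → k | (∀ j, eval x (g j) = 0) ∧ eval x ℓ = 1}
  have hkey : ∀ i : σ, ∃ (N : ℕ) (q : MvPolynomial σ k), q.totalDegree < N ∧ ∀ x ∈ S, x i ^ N = eval x q := by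
    intro i
    have hmem : (X i : MvPolynomial σ k) ∈ (Ideal.span (Set.range g ∪ {ℓ})).radical := by
      rw [← vanishingIdeal_zeroLocus_eq_radical (K := k)]
      intro x hx
      rw [zeroLocus_span] at hx
      have h0 := hzero x (fun j => by simpa [aeval_eq_eval] using hx _ (Or.inl ⟨j, rfl⟩))
        (by simpa [aeval_eq_eval] using hx _ (Or.inr rfl))
      simp [h0]
    obtain ⟨N₀, hN₀⟩ := hmem
    have hN := Ideal.mul_mem_left _ (X i) hN₀
    rw [← pow_succ'] at hN
    set N := N₀ + 1 with hNdef
    have hN0 : 0 < N := by omega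
    rw [Ideal.span_union, Submodule.mem_sup] at hN
    obtain ⟨a, ha, b, hb, hab⟩ := hN
    obtain ⟨c, rfl⟩ := Ideal.mem_span_singleton'.1 hb
    have ha0 : ∀ x : σ → k, (∀ j, eval x (g j) = 0) → eval x a = 0 := fun x hx => by
      have : Ideal.span (Set.range g) ≤ RingHom.ker (eval x) :=
        Ideal.span_le.2 (by rintro _ ⟨j, rfl⟩; exact hx j)
      exact this ha
    refine ⟨N, homogeneousComponent (N - 1) c, lt_of_le_of_lt ((homogeneousComponent_isHomogeneous _ c).totalDegree_le) (by omega), ?_⟩
    intro x hx
    let P : Polynomial k := Polynomial.C (x i ^ N) * Polynomial.X ^ N -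
      Polynomial.X * ∑ j ∈ Finset.range (c.totalDegree + 1), Polynomial.C (eval x (homogeneousComponent j c)) * Polynomial.X ^ j
    have hP : P = 0 := by
      refine Polynomial.funext fun r => ?_
      have h1 := congrArg (eval (r • x)) hab
      rw [map_add, map_mul, ha0 _ (fun j => by rw [eval_smul_of_isHomogeneous (hg j), hx.1 j, mul_zero]),
        eval_smul_of_isHomogeneous hℓ, hx.2, zero_add, map_pow, eval_X, Pi.smul_apply, smul_eq_mul] at h1
      rw [← sum_homogeneousComponent c, map_sum] at h1
      simp only [eval_smul_of_isHomogeneous (homogeneousComponent_isHomogeneous _ c)] at h1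
      simp only [P, Polynomial.eval_sub, Polynomial.eval_mul, Polynomial.eval_C, Polynomial.eval_pow, Polynomial.eval_X,
        Polynomial.eval_finsetSum, Polynomial.eval_zero]
      rw [sub_eq_zero, mul_comm (x i ^ N), ← mul_pow, ← h1, pow_one, mul_one, mul_comm]
      congr 1
      exact Finset.sum_congr rfl fun j _ => mul_comm _ _
    have h2 := congrArg (fun q : Polynomial k => q.coeff N) hP
    simp only [P, Polynomial.coeff_sub, Polynomial.coeff_C_mul, Polynomial.coeff_X_pow, if_pos, mul_one, Polynomial.coeff_zero] at h2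
    rw [show N = N - 1 + 1 by omega, Polynomial.coeff_X_mul, Polynomial.finsetSum_coeff] at h2
    simp only [Polynomial.coeff_C_mul, Polynomial.coeff_X_pow, mul_ite, mul_one, mul_zero, Finset.sum_ite_eq, Finset.mem_range] at h2
    rw [show N - 1 + 1 = N by omega] at h2
    split_ifs at h2 with hlt
    · exact sub_eq_zero.1 h2
    · rw [homogeneousComponent_eq_zero _ _ (by omega), map_zero]
      simpa using h2
  choose N q hq hxq using hkey
  let E : Finset (σ →₀ ℕ) := (Finset.univ : Finset (∀ i, Fin (N i))).image fun f => Finsupp.equivFunOnFinite.symm fun i => (f i : ℕ)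
  refine finite_of_spanning S E ?_
  suffices H : ∀ (D : ℕ) (d : σ →₀ ℕ), Finsupp.degree d = D →
      ∃ c : (σ →₀ ℕ) → k, ∀ x ∈ S, eval x (monomial d (1 : k)) = ∑ e ∈ E, c e * eval x (monomial e (1 : k)) from
    fun d => H _ d rfl
  intro D
  induction D using Nat.strong_induction_on with
  | _ D IH =>
    intro d hd
    by_cases hdE : d ∈ E
    · exact ⟨Pi.single d 1, fun x _ => by simp [Pi.single_apply, hdE]⟩
    obtain ⟨i, hi⟩ : ∃ i, N i ≤ d i := by
      by_contra hall
      push Not at hall
      exact hdE (Finset.mem_image.2 ⟨fun i => ⟨d i, hall i⟩, Finset.mem_univ _, Finsupp.ext fun i => by simp⟩)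
    set d' : σ →₀ ℕ := d - Finsupp.single i (N i)
    have hdd : d = d' + Finsupp.single i (N i) := Finsupp.ext fun j => by
      by_cases h : i = j
      · subst h; simp [d', hi]
      · simp [d', h]
    have hdeg' : Finsupp.degree d' + N i = D := by rw [← hd, hdd, map_add, Finsupp.degree_single]
    have hterm : ∀ e ∈ (q i).support, ∃ c : (σ →₀ ℕ) → k,
        ∀ x ∈ S, eval x (monomial (d' + e) (1 : k)) = ∑ a ∈ E, c a * eval x (monomial a (1 : k)) := by
      intro e he
      refine IH (Finsupp.degree (d' + e)) ?_ _ rfl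
      have h1 : Finsupp.degree e ≤ (q i).totalDegree := le_totalDegree he
      have := hq i
      rw [map_add]
      omega
    choose! c hc using hterm
    refine ⟨fun a => ∑ e ∈ (q i).support, coeff e (q i) * c e a, fun x hx => ?_⟩
    have h1 : eval x (monomial d (1 : k)) = eval x (monomial d' (1 : k)) * eval x (q i) := by
      rw [← hxq i x hx, hdd, show monomial (d' + Finsupp.single i (N i)) (1 : k) = monomial d' 1 * X i ^ N i by
        rw [X_pow_eq_monomial, monomial_mul, mul_one], map_mul, map_pow, eval_X]
    rw [h1]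
    conv_lhs => rw [(q i).as_sum, map_sum, Finset.mul_sum]
    simp only [Finset.sum_mul]
    rw [Finset.sum_comm]
    refine Finset.sum_congr rfl fun e he => ?_
    rw [show monomial e (coeff e (q i)) = C (coeff e (q i)) * monomial e (1 : k) by rw [C_mul_monomial, mul_one], map_mul, eval_C,
      mul_left_comm, ← map_mul, monomial_mul, mul_one, hc e he x hx, Finset.mul_sum]
    exact Finset.sum_congr rfl fun a _ => (mul_assoc _ _ _).symm

end Groth.L13.RamP1
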