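import Mathlib.RingTheory.Smooth.Field
import Mathlib.RingTheory.Etale.Kaehler
import Mathlib.RingTheory.Etale.Field
import Mathlib.RingTheory.Kaehler.Polynomial
import Mathlib.RingTheory.AlgebraicIndependent.TranscendenceBasis
import Mathlib.FieldTheory.SeparablyGenerated
import Mathlib.LinearAlgebra.Dual.Lemmas
import Mathlib.Tactic

/-! Transcendence degree is bounded by tangent vectors. -/

set_option autoImplicit false

universe u v

namespace Groth.L13.RamP1

open scoped TensorProduct

variable {k : Type u} [Field k] {L : Type u} [Field L] [Algebra k L]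

/-- a derivation of a field killing generators is zero -/
theorem derivation_eq_zero {σ : Type*} (x : σ → L)
    (hgen : ∀ z : L, ∃ a b : MvPolynomial σ k, MvPolynomial.aeval x b ≠ 0 ∧ z = MvPolynomial.aeval x a / MvPolynomial.aeval x b)
    (D : Derivation k L L) (h : ∀ i, D (x i) = 0) : D = 0 := by
  have hpoly : ∀ a : MvPolynomial σ k, D (MvPolynomial.aeval x a) = 0 := by
    intro a
    induction a using MvPolynomial.induction_on with
    | C c => rw [MvPolynomial.aeval_C, Derivation.map_algebraMap]
    | add a b ha hb => rw [map_add, map_add, ha, hb, add_zero]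
    | mul_X a i ha => rw [map_mul, MvPolynomial.aeval_X, Derivation.leibniz, ha, h i, smul_zero, smul_zero, add_zero]
  ext z
  obtain ⟨a, b, hb, rfl⟩ := hgen z
  rw [Derivation.leibniz_div, hpoly, hpoly]
  simp

/-- a separating transcendence basis bounds the dimension of the differentials from below -/
theorem card_le_finrank_dual [PerfectField k] [Algebra.EssFiniteType k L] {ι : Type*} {y : ι → L}
    (hy : AlgebraicIndependent k y) {T : Type*} [AddCommGroup T] [Module L T] [FiniteDimensional L T]
    (Φ : (Ω[L⁄k] →ₗ[L] L) →ₗ[L] T) (hΦ : Function.Injective Φ) :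
    Cardinal.mk ι ≤ (Module.finrank L T : Cardinal) := by
  classical
  obtain ⟨s, hs, hsep⟩ := exists_isTranscendenceBasis_and_isSeparable_of_perfectField k L
  let v : s → L := (↑)
  have hrange : Set.range v = (s : Set L) := by ext z; simp [v]
  let K' := IntermediateField.adjoin k (Set.range v)
  have hsep' : Algebra.IsSeparable K' L := by
    show Algebra.IsSeparable (IntermediateField.adjoin k (Set.range v)) L
    rw [hrange]; exact hsep
  let P := MvPolynomial s k
  let f : P →ₐ[k] K' :=
    MvPolynomial.aeval fun i : s => (⟨v i, IntermediateField.subset_adjoin k _ ⟨i, rfl⟩⟩ : K')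
  letI : Algebra P K' := f.toRingHom.toAlgebra
  letI : Algebra P L := (MvPolynomial.aeval v : P →ₐ[k] L).toRingHom.toAlgebra
  have : IsScalarTower k P L := IsScalarTower.of_algebraMap_eq fun c => ((MvPolynomial.aeval v : P →ₐ[k] L).commutes c).symm
  have : IsScalarTower P K' L := IsScalarTower.of_algebraMap_eq' (by
    apply MvPolynomial.ringHom_ext
    · intro c
      show MvPolynomial.aeval v (MvPolynomial.C c) = ((f (MvPolynomial.C c) : K') : L)
      rw [MvPolynomial.aeval_C]
      rw [show f (MvPolynomial.C c) = algebraMap k K' c from f.commutes c]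
      rfl
    · intro i
      show MvPolynomial.aeval v (MvPolynomial.X i) = ((f (MvPolynomial.X i) : K') : L)
      rw [MvPolynomial.aeval_X]
      exact congrArg Subtype.val (MvPolynomial.aeval_X (fun j : s => (⟨v j, IntermediateField.subset_adjoin k _ ⟨j, rfl⟩⟩ : K')) i).symm)
  have hfrac : IsFractionRing P K' := by
    have hinj : Function.Injective (MvPolynomial.aeval (R := k) v) := hs.1
    have hcomp : ∀ p : P, ((f p : K') : L) = MvPolynomial.aeval v p := fun p =>
      (congrArg (fun g : P →+* L => g p) (IsScalarTower.algebraMap_eq P K' L)).symm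
    have : FaithfulSMul P K' := (faithfulSMul_iff_algebraMap_injective P K').2 fun a b h => hinj (by
      rw [← hcomp, ← hcomp]; exact congrArg Subtype.val h)
    refine IsFractionRing.of_field P K' fun z => ?_
    obtain ⟨r, t, hrt⟩ := IntermediateField.mem_adjoin_range_iff k v (z : L) |>.1 z.2
    refine ⟨r, t, Subtype.ext ?_⟩
    rw [hrt, IntermediateField.coe_div]
    show _ = ((f r : K') : L) / ((f t : K') : L)
    rw [hcomp, hcomp]
  have : Algebra.FormallyEtale P K' := Algebra.FormallyEtale.of_isLocalization (nonZeroDivisors P)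
  have : Algebra.FormallyEtale K' L := Algebra.FormallyEtale.of_isSeparable _ L
  have : Algebra.FormallyEtale P L := Algebra.FormallyEtale.comp P K' L
  let e : L ⊗[P] Ω[P⁄k] ≃ₗ[L] Ω[L⁄k] := KaehlerDifferential.tensorKaehlerEquivOfFormallyEtale k P L
  let b : Module.Basis s L (Ω[L⁄k]) := ((KaehlerDifferential.mvPolynomialBasis k s).baseChange L).map e
  have : Module.Finite L (Ω[L⁄k]) := Module.Finite.of_basis b
  have h1 : Module.finrank L (Ω[L⁄k] →ₗ[L] L) = s.card := by
    show Module.finrank L (Module.Dual L (Ω[L⁄k])) = _
    rw [Subspace.dual_finrank_eq, Module.finrank_eq_card_basis b, Fintype.card_coe]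
  have h2 := LinearMap.finrank_le_finrank_of_injective hΦ
  rw [h1] at h2
  have h3 := hy.lift_cardinalMk_le_trdeg
  rw [← hs.cardinalMk_eq_trdeg] at h3
  rw [Cardinal.mk_fintype s, Fintype.card_coe, Cardinal.lift_natCast, Cardinal.lift_le_nat_iff] at h3
  exact h3.trans (by exact_mod_cast h2)

end Groth.L13.RamP1
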