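import Groth.Agent.L13.RamP1.Basic
import Groth.Agent.L13.RamP1.TangentBound
import Mathlib.Algebra.Polynomial.Taylor
import Mathlib.Algebra.CharP.Algebra

/-! Infinitesimal deformations of a pencil with prescribed ramification. -/

set_option autoImplicit false
set_option linter.unusedSectionVars false

universe u

namespace Groth.L13.RamP1

open Polynomial W4c1limliniiii

section derivation

variable {k : Type u} [Field k] {L : Type u} [Field L] [Algebra k L] (D : Derivation k L L)

/-- apply a derivation to the coefficients -/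
noncomputable def dc (p : L[X]) : L[X] := p.sum fun j a => monomial j (D a)

theorem coeff_dc (p : L[X]) (j : ℕ) : (dc D p).coeff j = D (p.coeff j) := by
  simp only [dc, sum_def, finsetSum_coeff, coeff_monomial, Finset.sum_ite_eq']
  split_ifs with h
  · rfl
  · rw [notMem_support_iff.1 h, map_zero]

theorem dc_add (p q : L[X]) : dc D (p + q) = dc D p + dc D q := by ext j; simp [coeff_dc]
theorem dc_sub (p q : L[X]) : dc D (p - q) = dc D p - dc D q := by ext j; simp [coeff_dc]
theorem dc_zero : dc D 0 = 0 := by ext j; simp [coeff_dc]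

theorem dc_mul (p q : L[X]) : dc D (p * q) = dc D p * q + p * dc D q := by
  ext j
  simp only [coeff_dc, coeff_add, coeff_mul, map_sum, Derivation.leibniz, smul_eq_mul]
  rw [← Finset.sum_add_distrib]
  exact Finset.sum_congr rfl fun x _ => by ring

theorem dc_C (a : L) : dc D (C a) = C (D a) := by
  ext j
  rw [coeff_dc, coeff_C, coeff_C]
  split_ifs
  · rfl
  · exact map_zero _

theorem dc_X : dc D (X : L[X]) = 0 := by
  ext j
  rw [coeff_dc, coeff_X]
  split_ifs <;> simp

theorem dc_one : dc D (1 : L[X]) = 0 := by rw [← C_1, dc_C, Derivation.map_one_eq_zero, map_zero]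

theorem dc_pow_X_sub_C (a : L) : ∀ m, dc D ((X - C a) ^ (m + 1)) = -(C ((m + 1 : ℕ) * D a) * (X - C a) ^ m)
  | 0 => by simp [dc_sub, dc_C, dc_X]
  | m + 1 => by
    rw [pow_succ, dc_mul, dc_pow_X_sub_C a m, dc_sub, dc_X, dc_C]
    push_cast
    simp only [map_mul, map_add, map_natCast, C_1, pow_succ]
    ring

theorem map_eval_dc (p : L[X]) (a : L) : D (p.eval a) = (dc D p).eval a + (derivative p).eval a * D a := by
  induction p using Polynomial.induction_on' with
  | add p q hp hq => rw [eval_add, map_add, hp, hq, dc_add, derivative_add, eval_add, eval_add]; ring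
  | monomial j c =>
    have : dc D (monomial j c) = monomial j (D c) := by
      ext i; rw [coeff_dc, coeff_monomial, coeff_monomial]; split_ifs <;> simp
    rw [this, eval_monomial, eval_monomial, derivative_monomial, eval_monomial, Derivation.leibniz, Derivation.leibniz_pow]
    simp only [smul_eq_mul, nsmul_eq_mul]
    ring

end derivation

variable {L : Type u} [Field L] {n : ℕ}

/-- the pencil member vanishing at `a` -/
noncomputable def member (F G : L[X]) (a : L) : L[X] := C (G.eval a) * F - C (F.eval a) * G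

/-- the first order variation -/
noncomputable def var (F G : L[X]) (v w : L[X]) : L[X] := G * v - F * w

/-- an echelon pencil with full prescribed ramification -/
structure Datum (d : ℕ) (e : Fin n → ℕ) where
  a : Fin n → L
  b : ℕ
  F : L[X]
  G : L[X]
  c : Fin n → Bool
  a_inj : Function.Injective a
  b_lt : b < d
  F_deg : F.natDegree ≤ d
  F_d : F.coeff d = 1
  F_b : F.coeff b = 0
  G_deg : G.natDegree ≤ b
  G_b : G.coeff b = 1
  dvd : ∀ i, (X - C (a i)) ^ e i ∣ member F G (a i)
  w_ne : (wronskian F G).coeff (2 * d - 2) ≠ 0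
  pivot : ∀ i, (if c i then G else F).eval (a i) ≠ 0

namespace Datum

variable {d : ℕ} {e : Fin n → ℕ} (S : Datum (L := L) d e)

theorem G_d : S.G.coeff d = 0 := coeff_eq_zero_of_natDegree_lt (lt_of_le_of_lt S.G_deg S.b_lt)

theorem F_natDegree : S.F.natDegree = d := natDegree_eq_of_le_of_coeff_ne_zero S.F_deg (by rw [S.F_d]; exact one_ne_zero)

theorem member_ne_zero (i : Fin n) : member S.F S.G (S.a i) ≠ 0 := by
  intro h
  have hg : S.G.eval (S.a i) = 0 := by
    have := congrArg (fun q : L[X] => q.coeff d) h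
    simpa [member, S.F_d, S.G_d] using this
  have hG0 : S.G ≠ 0 := fun h0 => by simpa [h0] using S.G_b
  rw [member, hg, map_zero, zero_mul, zero_sub, neg_eq_zero, mul_eq_zero, C_eq_zero] at h
  have hf := h.resolve_right hG0
  have := S.pivot i
  split_ifs at this
  · exact this hg
  · exact this hf

theorem le : Submodule.span L {S.F, S.G} ≤ degreeLE L (d : WithBot ℕ) := Submodule.span_le.2 (by
  rintro x (rfl | rfl)
  · exact mem_degreeLE_of S.F_deg
  · exact mem_degreeLE_of (S.G_deg.trans S.b_lt.le))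

theorem exists_wronskian (p : ℕ) (he : Admissible p d e) :
    ∃ γ : L, γ ≠ 0 ∧ wronskian S.F S.G = C γ * ramPoly S.a e := by
  have hw : wronskian S.F S.G ≠ 0 := fun h => S.w_ne (by rw [h, coeff_zero])
  have hrk := finrank_span_pair_of_wronskian hw
  have hFm : S.F ∈ Submodule.span L {S.F, S.G} := Submodule.subset_span (by simp)
  have hGm : S.G ∈ Submodule.span L {S.F, S.G} := Submodule.subset_span (by simp)
  obtain ⟨c, hc⟩ := ramPoly_dvd_wronskian S.a S.a_inj e hrk rfl (F := S.F) (G := S.G) fun i =>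
    ⟨member S.F S.G (S.a i), by
      rw [member, ← smul_eq_C_mul, ← smul_eq_C_mul]
      exact sub_mem (Submodule.smul_mem _ _ hFm) (Submodule.smul_mem _ _ hGm),
     S.member_ne_zero i, le_of_pow_dvd (S.member_ne_zero i) (S.dvd i)⟩
  have hc0 : c ≠ 0 := fun h => hw (by rw [hc, h, mul_zero])
  have hsum := sum_sub_one he
  have hle := (natDegree_wronskian_le S.le hFm hGm).1
  rw [hc, natDegree_mul (ramPoly_ne_zero S.a e) hc0, natDegree_ramPoly] at hle
  obtain ⟨γ, rfl⟩ : ∃ γ, c = C γ := ⟨_, eq_C_of_natDegree_eq_zero (by omega)⟩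
  exact ⟨γ, fun h => hc0 (by rw [h, map_zero]), by rw [hc, mul_comm]⟩

theorem isCoprime (p : ℕ) (he : Admissible p d e) : IsCoprime S.F S.G := by
  obtain ⟨γ, hγ, hw⟩ := S.exists_wronskian p he
  rw [← isRelPrime_iff_isCoprime]
  intro r hrF hrG
  have hrW : r ∣ ramPoly S.a e := (IsUnit.dvd_mul_left (isUnit_C.2 hγ.isUnit)).1
    (hw ▸ dvd_sub (hrF.mul_right _) (hrG.mul_left _) : r ∣ C γ * ramPoly S.a e)
  have hcop : IsCoprime r (ramPoly S.a e) := IsCoprime.prod_right fun i _ => IsCoprime.pow_right (by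
    refine ((irreducible_X_sub_C (S.a i)).coprime_iff_not_dvd.2 fun h => ?_).symm
    have h1 : S.F.eval (S.a i) = 0 := dvd_iff_isRoot.1 (h.trans hrF)
    have h2 : S.G.eval (S.a i) = 0 := dvd_iff_isRoot.1 (h.trans hrG)
    have := S.pivot i
    split_ifs at this
    · exact this h2
    · exact this h1)
  exact hcop.isUnit_of_dvd' dvd_rfl hrW

theorem derivative_member (p : ℕ) (he : Admissible p d e) (i : Fin n) :
    S.G.eval (S.a i) * (derivative S.F).eval (S.a i) - S.F.eval (S.a i) * (derivative S.G).eval (S.a i) = 0 := by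
  have h2 : (X - C (S.a i)) ^ 2 ∣ member S.F S.G (S.a i) := (pow_dvd_pow _ (he.1 i).1).trans (S.dvd i)
  have h3 : (X - C (S.a i)) ^ (2 - 1) ∣ derivative (member S.F S.G (S.a i)) := pow_sub_one_dvd_derivative h2
  rw [show (2 : ℕ) - 1 = 1 from rfl, pow_one] at h3
  have h1 := dvd_iff_isRoot.1 h3
  simpa [member, derivative_sub, derivative_C_mul] using h1

theorem quotient_eval_ne_zero (p : ℕ) (he : Admissible p d e) (i : Fin n) {q : L[X]}
    (hq : member S.F S.G (S.a i) = (X - C (S.a i)) ^ e i * q) : q.eval (S.a i) ≠ 0 := by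
  intro h0
  obtain ⟨γ, hγ, hw⟩ := S.exists_wronskian p he
  have h1 : (X - C (S.a i)) ^ (e i + 1) ∣ member S.F S.G (S.a i) := by
    rw [hq, pow_succ]; exact mul_dvd_mul_left _ (dvd_iff_isRoot.2 h0)
  have hh : ∀ t, (X - C (S.a i)) ^ e i ∣ wronskian (member S.F S.G (S.a i)) t := fun t => dvd_wronskian_of_left (m := e i + 1) h1
  have e1 : wronskian (member S.F S.G (S.a i)) S.G = C (S.G.eval (S.a i)) * wronskian S.F S.G := by
    simp only [member, wronskian, derivative_sub, derivative_C_mul]; ring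
  have e2 : wronskian (member S.F S.G (S.a i)) S.F = C (S.F.eval (S.a i)) * wronskian S.F S.G := by
    simp only [member, wronskian, derivative_sub, derivative_C_mul]; ring
  have hne : ∀ z : L, z ≠ 0 → ¬ (X - C (S.a i)) ^ e i ∣ C z * wronskian S.F S.G := fun z hz h => by
    rw [hw, ← mul_assoc, ← map_mul] at h
    refine not_dvd_ramPoly S.a S.a_inj e i ?_
    rw [show e i - 1 + 1 = e i by have := (he.1 i).1; omega]
    exact (IsUnit.dvd_mul_left (isUnit_C.2 (mul_ne_zero hz hγ).isUnit)).1 h
  have := S.pivot i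
  split_ifs at this
  · exact hne _ this (e1 ▸ hh S.G)
  · exact hne _ this (e2 ▸ hh S.F)

/-- squares of the pivot -/
noncomputable def U (i : Fin n) : L[X] := (if S.c i then S.G else S.F) ^ 2

/-- congruence space -/
noncomputable def congSpace (i : Fin n) : Submodule L L[X] :=
  Submodule.comap ((S.U i).eval (S.a i) • LinearMap.id - (LinearMap.toSpanSingleton L L[X] (S.U i)).comp (Polynomial.leval (S.a i)))
    ((Ideal.span {(X - C (S.a i)) ^ (e i - 1)}).restrictScalars L)

theorem mem_congSpace {i : Fin n} {h : L[X]} : h ∈ S.congSpace i ↔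
    (X - C (S.a i)) ^ (e i - 1) ∣ C ((S.U i).eval (S.a i)) * h - C (h.eval (S.a i)) * S.U i := by
  simp [congSpace, Ideal.mem_span_singleton, smul_eq_C_mul]

theorem quad_mem_congSpace (i : Fin n) (α β γ : L) : α • S.F ^ 2 + β • (S.F * S.G) + γ • S.G ^ 2 ∈ S.congSpace i := by
  have hS : (X - C (S.a i)) ^ (e i - 1) ∣ member S.F S.G (S.a i) := (pow_dvd_pow _ (Nat.sub_le _ _)).trans (S.dvd i)
  refine add_mem (add_mem (Submodule.smul_mem _ α ?_) (Submodule.smul_mem _ β ?_)) (Submodule.smul_mem _ γ ?_) <;>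
    rw [mem_congSpace] <;> simp only [U] <;> split_ifs <;> refine hS.trans ?_
  · exact ⟨C (S.G.eval (S.a i)) * S.F + C (S.F.eval (S.a i)) * S.G, by simp only [member, eval_pow, map_pow]; ring⟩
  · exact ⟨0, by simp only [eval_pow]; ring⟩
  · exact ⟨C (S.G.eval (S.a i)) * S.G, by simp only [member, eval_pow, eval_mul, map_pow, map_mul]; ring⟩
  · exact ⟨-(C (S.F.eval (S.a i)) * S.F), by simp only [member, eval_pow, eval_mul, map_pow, map_mul]; ring⟩
  · exact ⟨0, by simp only [eval_pow]; ring⟩
  · exact ⟨-(C (S.F.eval (S.a i)) * S.G + C (S.G.eval (S.a i)) * S.F), by simp only [member, eval_pow, map_pow]; ring⟩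

variable {k : Type u} [Field k] [Algebra k L] (D : Derivation k L L)

theorem eval_var (p : ℕ) (he : Admissible p d e) (i : Fin n) :
    (var S.F S.G (dc D S.F) (dc D S.G)).eval (S.a i) =
      D (S.F.eval (S.a i)) * S.G.eval (S.a i) - D (S.G.eval (S.a i)) * S.F.eval (S.a i) := by
  simp only [var, map_eval_dc, eval_sub, eval_mul]
  linear_combination (-(D (S.a i))) * S.derivative_member p he i

theorem var_mem_congSpace (p : ℕ) (he : Admissible p d e) (i : Fin n) :
    var S.F S.G (dc D S.F) (dc D S.G) ∈ S.congSpace i := by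
  have hS := S.dvd i
  obtain ⟨q, hq⟩ := hS
  obtain ⟨m, hm⟩ : ∃ m, e i = m + 1 := ⟨e i - 1, by have := (he.1 i).1; omega⟩
  have h0 : (X - C (S.a i)) ^ (e i - 1) ∣ dc D (member S.F S.G (S.a i)) := by
    rw [hq, dc_mul, hm, dc_pow_X_sub_C, Nat.add_sub_cancel]
    exact dvd_add (((dvd_mul_left _ _).neg_right).mul_right _) ((pow_dvd_pow _ (Nat.le_succ m)).mul_right _)
  have hS1 : (X - C (S.a i)) ^ (e i - 1) ∣ member S.F S.G (S.a i) := (pow_dvd_pow _ (Nat.sub_le _ _)).trans (S.dvd i)
  rw [mem_congSpace, S.eval_var D p he i]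
  simp only [U]
  set DS := dc D (member S.F S.G (S.a i)) with hDS
  simp only [member, dc_sub, dc_mul, dc_C] at hDS
  split_ifs
  · have key : C ((S.G ^ 2).eval (S.a i)) * var S.F S.G (dc D S.F) (dc D S.G) -
        C (D (S.F.eval (S.a i)) * S.G.eval (S.a i) - D (S.G.eval (S.a i)) * S.F.eval (S.a i)) * S.G ^ 2 =
        C (S.G.eval (S.a i)) * S.G * DS -
          (C (S.G.eval (S.a i)) * dc D S.G + C (D (S.G.eval (S.a i))) * S.G) * member S.F S.G (S.a i) := by
      rw [hDS]; simp only [var, member, eval_pow, map_pow, map_sub, map_mul]; ring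
    rw [key]
    exact dvd_sub (h0.mul_left _) (hS1.mul_left _)
  · have key : C ((S.F ^ 2).eval (S.a i)) * var S.F S.G (dc D S.F) (dc D S.G) -
        C (D (S.F.eval (S.a i)) * S.G.eval (S.a i) - D (S.G.eval (S.a i)) * S.F.eval (S.a i)) * S.F ^ 2 =
        C (S.F.eval (S.a i)) * S.F * DS -
          (C (S.F.eval (S.a i)) * dc D S.F + C (D (S.F.eval (S.a i))) * S.F) * member S.F S.G (S.a i) := by
      rw [hDS]; simp only [var, member, eval_pow, map_pow, map_sub, map_mul]; ring
    rw [key]
    exact dvd_sub (h0.mul_left _) (hS1.mul_left _)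

theorem map_point_eq_zero (p : ℕ) [CharP k p] (he : Admissible p d e) (hF : dc D S.F = 0) (hG : dc D S.G = 0) (i : Fin n) :
    D (S.a i) = 0 := by
  obtain ⟨q, hq⟩ := S.dvd i
  have hq0 := S.quotient_eval_ne_zero p he i hq
  obtain ⟨m, hm⟩ : ∃ m, e i = m + 1 := ⟨e i - 1, by have := (he.1 i).1; omega⟩
  have h1 : dc D (member S.F S.G (S.a i)) =
      C (D (S.a i)) * (C ((derivative S.G).eval (S.a i)) * S.F - C ((derivative S.F).eval (S.a i)) * S.G) := by
    simp only [member, dc_sub, dc_mul, dc_C, hF, hG, map_eval_dc, eval_zero, zero_add, map_mul]; ring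
  have h2 : (X - C (S.a i)) ^ e i ∣ dc D (member S.F S.G (S.a i)) := by
    rw [h1]
    refine Dvd.dvd.mul_left ?_ _
    have hd := S.derivative_member p he i
    by_cases hg : S.G.eval (S.a i) = 0
    · have hf : S.F.eval (S.a i) ≠ 0 := by
        have := S.pivot i
        split_ifs at this
        · exact absurd hg this
        · exact this
      refine (IsUnit.dvd_mul_left (isUnit_C.2 hf.isUnit)).1 ((S.dvd i).trans ⟨C ((derivative S.F).eval (S.a i)), ?_⟩)
      have : C (S.G.eval (S.a i)) * C ((derivative S.F).eval (S.a i)) - C (S.F.eval (S.a i)) * C ((derivative S.G).eval (S.a i)) = 0 := by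
        rw [← map_mul, ← map_mul, ← map_sub, hd, map_zero]
      simp only [member]; linear_combination (-S.F) * this
    · refine (IsUnit.dvd_mul_left (isUnit_C.2 (Ne.isUnit hg))).1 ((S.dvd i).trans ⟨C ((derivative S.G).eval (S.a i)), ?_⟩)
      have : C (S.G.eval (S.a i)) * C ((derivative S.F).eval (S.a i)) - C (S.F.eval (S.a i)) * C ((derivative S.G).eval (S.a i)) = 0 := by
        rw [← map_mul, ← map_mul, ← map_sub, hd, map_zero]
      simp only [member]; linear_combination (-S.G) * this
  rw [hq, dc_mul, hm, dc_pow_X_sub_C] at h2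
  have h3 : (X - C (S.a i)) ^ (m + 1) ∣ C (((m + 1 : ℕ) : L) * D (S.a i)) * (X - C (S.a i)) ^ m * q := by
    have := dvd_sub (dvd_mul_right ((X - C (S.a i)) ^ (m + 1)) (dc D q)) h2
    simpa using this
  rw [pow_succ, mul_comm (C _) _, mul_assoc, mul_dvd_mul_iff_left (pow_ne_zero _ (X_sub_C_ne_zero _)), dvd_iff_isRoot, IsRoot,
    eval_mul, eval_C] at h3
  have hne : ((m + 1 : ℕ) : L) ≠ 0 := by
    have : CharP L p := charP_of_injective_algebraMap (algebraMap k L).injective p
    rw [← hm]
    exact fun h => (he.1 i).2.2 ((CharP.cast_eq_zero_iff L p _).1 h)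
  exact (mul_eq_zero.1 ((mul_eq_zero.1 h3).resolve_right hq0)).resolve_left hne

end Datum

end Groth.L13.RamP1
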