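import Mathlib.RingTheory.AlgebraicIndependent.Basic
import Mathlib.RingTheory.Algebraic.Basic
import Mathlib.RingTheory.Ideal.MinimalPrime.Noetherian
import Mathlib.RingTheory.Polynomial.Basic
import Mathlib.RingTheory.Localization.FractionRing
import Mathlib.RingTheory.EssentialFiniteness
import Mathlib.FieldTheory.IsAlgClosed.Basic
import Mathlib.Algebra.MvPolynomial.Funext
import Mathlib.Tactic

/-! Generic finiteness from the behaviour at generic points. -/

set_option autoImplicit false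

universe u v

namespace Groth.L13.RamP1

open MvPolynomial

variable {k : Type u} [Field k] {n : ℕ} {τ : Type} [Finite τ]

/-- every component: either its `P`-coordinates are dependent or the others are algebraic over them -/
theorem elimination (I : Ideal (MvPolynomial (Fin n ⊕ τ) k)) (h : MvPolynomial (Fin n ⊕ τ) k) :
    ((∀ (L : Type u) [Field L] [Algebra k L] [Algebra.EssFiniteType k L] (x : Fin n ⊕ τ → L),
        (∀ z : L, ∃ a b : MvPolynomial (Fin n ⊕ τ) k, aeval x b ≠ 0 ∧ z = aeval x a / aeval x b) →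
        (∀ f ∈ I, aeval x f = 0) → aeval x h ≠ 0 → AlgebraicIndependent k (x ∘ Sum.inl) →
        ∀ t, IsAlgebraic (Algebra.adjoin k (Set.range (x ∘ Sum.inl))) (x (Sum.inr t))) →
      ∃ Φ : MvPolynomial (Fin n) k, Φ ≠ 0 ∧ ∀ P : Fin n → k, eval P Φ ≠ 0 →
        {y : τ → k | (∀ f ∈ I, eval (Sum.elim P y) f = 0) ∧ eval (Sum.elim P y) h ≠ 0}.Finite) ∧
    ((∀ (L : Type u) [Field L] [Algebra k L] [Algebra.EssFiniteType k L] (x : Fin n ⊕ τ → L),
        (∀ z : L, ∃ a b : MvPolynomial (Fin n ⊕ τ) k, aeval x b ≠ 0 ∧ z = aeval x a / aeval x b) →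
        (∀ f ∈ I, aeval x f = 0) → aeval x h ≠ 0 → ¬ AlgebraicIndependent k (x ∘ Sum.inl)) →
      ∃ Φ : MvPolynomial (Fin n) k, Φ ≠ 0 ∧ ∀ P : Fin n → k, eval P Φ ≠ 0 →
        ∀ y : τ → k, (∀ f ∈ I, eval (Sum.elim P y) f = 0) → eval (Sum.elim P y) h = 0) := by
  classical
  cases nonempty_fintype τ
  let R := MvPolynomial (Fin n ⊕ τ) k
  have hfin := Ideal.finite_minimalPrimes_of_isNoetherianRing R I
  let S : Finset (Ideal R) := hfin.toFinset.filter fun q => h ∉ q
  have hS : ∀ q ∈ S, q ∈ I.minimalPrimes ∧ h ∉ q := fun q hq =>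
    ⟨hfin.mem_toFinset.1 (Finset.mem_filter.1 hq).1, (Finset.mem_filter.1 hq).2⟩
  have cover : ∀ x : Fin n ⊕ τ → k, (∀ f ∈ I, eval x f = 0) → eval x h ≠ 0 → ∃ q ∈ S, ∀ f ∈ q, eval x f = 0 := by
    intro x hx hh
    have : (RingHom.ker (eval x)).IsPrime := RingHom.ker_isPrime _
    have hle' : I ≤ RingHom.ker (eval x) := fun f hf => hx f hf
    obtain ⟨q, hq, hle⟩ := Ideal.exists_minimalPrimes_le hle'
    exact ⟨q, Finset.mem_filter.2 ⟨hfin.mem_toFinset.2 hq, fun hm => hh (hle hm)⟩, fun f hf => hle hf⟩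
  have gen : ∀ q ∈ S, ∃ (L : Type u) (_ : Field L) (_ : Algebra k L) (_ : Algebra.EssFiniteType k L) (x : Fin n ⊕ τ → L),
      (∀ z : L, ∃ a b : MvPolynomial (Fin n ⊕ τ) k, aeval x b ≠ 0 ∧ z = aeval x a / aeval x b) ∧
      (∀ f ∈ I, aeval x f = 0) ∧ aeval x h ≠ 0 ∧ ∀ f : R, aeval x f = 0 → f ∈ q := by
    intro q hq
    obtain ⟨hqm, hhq⟩ := hS q hq
    have hqp : q.IsPrime := hqm.isPrime
    have : IsDomain (R ⧸ q) := (Ideal.Quotient.isDomain_iff_prime q).2 hqp
    let L := FractionRing (R ⧸ q)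
    let x : Fin n ⊕ τ → L := fun i => algebraMap (R ⧸ q) L (Ideal.Quotient.mk q (X i))
    have hae : ∀ f : R, aeval x f = algebraMap (R ⧸ q) L (Ideal.Quotient.mk q f) := by
      intro f
      have : (aeval x : R →ₐ[k] L) = (IsScalarTower.toAlgHom k (R ⧸ q) L).comp (Ideal.Quotient.mkₐ k q) :=
        algHom_ext fun i => by simp [x]
      rw [this]; rfl
    have : Algebra.EssFiniteType (R ⧸ q) L := Algebra.EssFiniteType.of_isLocalization L (nonZeroDivisors _)
    have : Algebra.EssFiniteType k L := Algebra.EssFiniteType.comp k (R ⧸ q) L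
    have hzero : ∀ f : R, aeval x f = 0 ↔ f ∈ q := fun f => by
      rw [hae, IsFractionRing.to_map_eq_zero_iff, Ideal.Quotient.eq_zero_iff_mem]
    refine ⟨L, inferInstance, inferInstance, ‹_›, x, fun z => ?_, fun f hf => (hzero f).2 (hqm.1.2 hf),
      fun h0 => hhq ((hzero h).1 h0), fun f hf => (hzero f).1 hf⟩
    obtain ⟨a, b, hb, rfl⟩ := IsFractionRing.div_surjective (A := R ⧸ q) z
    obtain ⟨a, rfl⟩ := Ideal.Quotient.mk_surjective a
    obtain ⟨b, rfl⟩ := Ideal.Quotient.mk_surjective b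
    refine ⟨a, b, ?_, by rw [hae, hae]⟩
    rw [hae, IsFractionRing.to_map_eq_zero_iff.ne]
    exact nonZeroDivisors.ne_zero hb
  have dep : ∀ {L : Type u} [Field L] [Algebra k L] (x : Fin n ⊕ τ → L),
      ¬ AlgebraicIndependent k (x ∘ Sum.inl) → ∃ F : MvPolynomial (Fin n) k, F ≠ 0 ∧ aeval x (rename Sum.inl F) = 0 := by
    intro L _ _ x hx
    rw [algebraicIndependent_iff] at hx
    push Not at hx
    obtain ⟨F, hF, hF0⟩ := hx
    exact ⟨F, hF0, by rw [aeval_rename]; exact hF⟩
  constructor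
  · intro H
    have key : ∀ q ∈ S, ∃ Φ : MvPolynomial (Fin n) k, Φ ≠ 0 ∧ ∀ P : Fin n → k, eval P Φ ≠ 0 →
        {y : τ → k | ∀ f ∈ q, eval (Sum.elim P y) f = 0}.Finite := by
      intro q hq
      obtain ⟨L, _, _, _, x, hgen, hI, hh, hq'⟩ := gen q hq
      by_cases hind : AlgebraicIndependent k (x ∘ Sum.inl)
      · have halg := H L x hgen hI hh hind
        have hG : ∀ t : τ, ∃ G : Polynomial (MvPolynomial (Fin n) k), G ≠ 0 ∧
            G.eval₂ (rename (Sum.inl : Fin n → Fin n ⊕ τ)).toRingHom (X (Sum.inr t)) ∈ q := by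
          intro t
          obtain ⟨p, hp0, hp⟩ := halg t
          refine ⟨p.map hind.aevalEquiv.symm.toRingEquiv.toRingHom, ?_, hq' _ ?_⟩
          · exact (Polynomial.map_ne_zero_iff hind.aevalEquiv.symm.toRingEquiv.injective).2 hp0
          · rw [Polynomial.eval₂_map, ← AlgHom.coe_toRingHom, Polynomial.hom_eval₂, AlgHom.coe_toRingHom, aeval_X]
            rw [Polynomial.aeval_def] at hp
            refine (congrArg (fun r => Polynomial.eval₂ r _ p) (RingHom.ext fun c => ?_)).trans hp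
            show aeval x (rename Sum.inl (hind.aevalEquiv.symm c)) = (c : L)
            rw [aeval_rename]
            conv_rhs => rw [← hind.aevalEquiv.apply_symm_apply c]
            exact (hind.algebraMap_aevalEquiv _).symm
        choose G hG0 hG using hG
        refine ⟨∏ t, (G t).leadingCoeff, Finset.prod_ne_zero_iff.2 fun t _ => Polynomial.leadingCoeff_ne_zero.2 (hG0 t),
          fun P hP => ?_⟩
        rw [map_prod, Finset.prod_ne_zero_iff] at hP
        refine (Set.Finite.pi (t := fun t => {c : k | ((G t).map (eval P)).IsRoot c}) fun t => ?_).subset ?_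
        · refine Polynomial.finite_setOfPred_isRoot fun h0 => hP t (Finset.mem_univ t) ?_
          have := congrArg (fun r : Polynomial k => r.coeff (G t).natDegree) h0
          simpa [Polynomial.coeff_map] using this
        · intro y hy t _
          show ((G t).map (eval P)).eval (y t) = 0
          have h1 := hy _ (hG t)
          rw [Polynomial.hom_eval₂, eval_X] at h1
          rw [Polynomial.eval_map]
          refine (congrArg (fun r => Polynomial.eval₂ r _ (G t)) (MvPolynomial.ringHom_ext (fun c => ?_) (fun i => ?_))).trans h1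
          · simp
          · simp
      · obtain ⟨F, hF0, hF⟩ := dep x hind
        refine ⟨F, hF0, fun P hP => ?_⟩
        convert Set.finite_empty
        refine Set.eq_empty_iff_forall_notMem.2 fun y hy => hP ?_
        have := hy _ (hq' _ hF)
        rwa [eval_rename] at this
    choose! Φ hΦ0 hΦ using key
    refine ⟨∏ q ∈ S, Φ q, Finset.prod_ne_zero_iff.2 fun q hq => hΦ0 q hq, fun P hP => ?_⟩
    rw [map_prod, Finset.prod_ne_zero_iff] at hP
    refine (Set.Finite.biUnion S.finite_toSet fun q hq => hΦ q hq P (hP q hq)).subset fun y hy => ?_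
    obtain ⟨q, hq, hqy⟩ := cover _ hy.1 hy.2
    exact Set.mem_biUnion hq hqy
  · intro H
    have key : ∀ q ∈ S, ∃ Φ : MvPolynomial (Fin n) k, Φ ≠ 0 ∧ rename Sum.inl Φ ∈ q := by
      intro q hq
      obtain ⟨L, _, _, _, x, hgen, hI, hh, hq'⟩ := gen q hq
      obtain ⟨F, hF0, hF⟩ := dep x (H L x hgen hI hh)
      exact ⟨F, hF0, hq' _ hF⟩
    choose! Φ hΦ0 hΦ using key
    refine ⟨∏ q ∈ S, Φ q, Finset.prod_ne_zero_iff.2 fun q hq => hΦ0 q hq, fun P hP y hy => ?_⟩
    by_contra hh
    rw [map_prod, Finset.prod_ne_zero_iff] at hP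
    obtain ⟨q, hq, hqy⟩ := cover _ hy hh
    have := hqy _ (hΦ q hq)
    rw [eval_rename] at this
    exact hP q hq this

end Groth.L13.RamP1
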