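import Groth.Agent.L13.RamP1.Basic
import Mathlib.FieldTheory.IsAlgClosed.Basic
import Mathlib.Algebra.CharP.Lemmas

/-! Inseparable pencils. -/

set_option autoImplicit false

universe u

namespace Groth.L13.RamP1

open Polynomial W4c1limliniiii

variable {k : Type u} [Field k]

theorem natDegree_eq_zero_of_derivative_eq_zero {p : ℕ} [CharP k p] {q : k[X]} {d : ℕ} (hd : p = 0 ∨ d < p) (hq : q.natDegree ≤ d)
    (h : derivative q = 0) : q.natDegree = 0 := by
  by_contra h0
  have hc := congrArg (fun r => r.coeff (q.natDegree - 1)) h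
  simp only [coeff_derivative, coeff_zero, show q.natDegree - 1 + 1 = q.natDegree by omega] at hc
  rcases mul_eq_zero.1 hc with h1 | h1
  · exact h0 (by
      have : q = 0 := leadingCoeff_eq_zero.1 h1
      rw [this, natDegree_zero])
  · rw [show ((q.natDegree - 1 : ℕ) : k) + 1 = ((q.natDegree : ℕ) : k) by
      rw [← Nat.cast_add_one, show q.natDegree - 1 + 1 = q.natDegree by omega]] at h1
    have hdvd := (CharP.cast_eq_zero_iff k p _).1 h1
    rcases hd with rfl | hd
    · exact h0 (Nat.eq_zero_of_zero_dvd hdvd)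
    · exact absurd (Nat.le_of_dvd (Nat.pos_of_ne_zero h0) hdvd) (by omega)

/-- in degree below the characteristic every pencil is separable -/
theorem isSeparable_of_lt {p d : ℕ} [CharP k p] (hd : p = 0 ∨ d < p) {V : Submodule k k[X]}
    (hV : V ≤ degreeLE k (d : WithBot ℕ)) (hrk : Module.finrank k V = 2) : IsSeparable V := by
  classical
  have hfin : FiniteDimensional k V := Module.finite_of_finrank_eq_succ hrk
  obtain ⟨s, hsV, hs⟩ : ∃ s ∈ V, s ≠ 0 := (Submodule.ne_bot_iff _).1 fun h => by
    rw [h, finrank_bot] at hrk; omega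
  obtain ⟨t, htV, hVt⟩ := exists_second hrk hsV hs
  rw [hVt, isSeparable_iff]
  intro hw
  obtain ⟨x, y, g, hg, hst, hs', ht'⟩ : ∃ x y g : k[X], g ≠ 0 ∧ IsCoprime x y ∧ s = g * x ∧ t = g * y := by
    obtain ⟨x, hx⟩ := EuclideanDomain.gcd_dvd_left s t
    obtain ⟨y, hy⟩ := EuclideanDomain.gcd_dvd_right s t
    have hg : EuclideanDomain.gcd s t ≠ 0 := fun h => hs (EuclideanDomain.gcd_eq_zero_iff.1 h).1
    refine ⟨x, y, _, hg, ?_, hx, hy⟩
    refine ⟨EuclideanDomain.gcdA s t, EuclideanDomain.gcdB s t, mul_left_cancel₀ hg ?_⟩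
    have e := EuclideanDomain.gcd_eq_gcd_ab s t
    linear_combination (-(EuclideanDomain.gcdA s t)) * hx + (-(EuclideanDomain.gcdB s t)) * hy - e
  have hsd := natDegree_le_of_mem (hV hsV)
  have htd := natDegree_le_of_mem (hV htV)
  have hxy : wronskian x y = 0 := by
    have : wronskian s t = g * g * wronskian x y := by
      simp only [wronskian, hs', ht', derivative_mul]; ring
    rw [hw] at this
    exact (mul_eq_zero.1 this.symm).resolve_left (mul_ne_zero hg hg)
  obtain ⟨hx', hy'⟩ := hst.wronskian_eq_zero_iff.1 hxy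
  have hxne : x ≠ 0 := fun h => hs (by rw [hs', h, mul_zero])
  have hyd : y.natDegree ≤ d := by
    by_cases hy0 : y = 0
    · simp [hy0]
    · rw [ht', natDegree_mul hg hy0] at htd; omega
  have hxd : x.natDegree ≤ d := by rw [hs', natDegree_mul hg hxne] at hsd; omega
  obtain ⟨a, rfl⟩ : ∃ a, x = C a := ⟨_, eq_C_of_natDegree_eq_zero (natDegree_eq_zero_of_derivative_eq_zero hd hxd hx')⟩
  obtain ⟨b, rfl⟩ : ∃ b, y = C b := ⟨_, eq_C_of_natDegree_eq_zero (natDegree_eq_zero_of_derivative_eq_zero hd hyd hy')⟩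
  have ha : a ≠ 0 := fun h => hxne (by rw [h, map_zero])
  have h1 : V ≤ Submodule.span k {s} := hVt ▸ Submodule.span_le.2 (by
    rintro z (rfl | rfl)
    · exact Submodule.mem_span_singleton_self _
    · refine Submodule.mem_span_singleton.2 ⟨b / a, ?_⟩
      rw [hs', ht', smul_eq_C_mul, mul_left_comm, ← map_mul, div_mul_cancel₀ _ ha])
  have := Submodule.finrank_mono h1
  rw [hrk, finrank_span_singleton hs] at this
  omega

/-- the Frobenius pencil times `h` -/
theorem frobenius_pencil {p : ℕ} [hp : Fact p.Prime] [CharP k p] {d : ℕ} {h : k[X]} (hh : h ≠ 0) (hd : h.natDegree + p ≤ d) :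
    Submodule.span k {h * X ^ p, h} ≤ degreeLE k (d : WithBot ℕ) ∧
      Module.finrank k (Submodule.span k {h * X ^ p, h}) = 2 ∧
      ¬ IsSeparable (Submodule.span k {h * X ^ p, h}) ∧
      ∀ a : k, h * (X - C a) ^ p ∈ Submodule.span k {h * X ^ p, h} := by
  refine ⟨Submodule.span_le.2 ?_, ?_, ?_, fun a => ?_⟩
  · rintro x (rfl | rfl)
    · exact mem_degreeLE_of (natDegree_mul_le.trans (by rw [natDegree_X_pow]; omega))
    · exact mem_degreeLE_of (by omega)
  · have hli : LinearIndependent k ![h * X ^ p, h] := by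
      rw [LinearIndependent.pair_iff' (mul_ne_zero hh (pow_ne_zero _ X_ne_zero))]
      intro a ha
      have h1 := congrArg natDegree ha
      rcases eq_or_ne a 0 with rfl | ha0
      · exact hh (by simpa using ha.symm)
      · rw [natDegree_smul _ ha0, natDegree_mul hh (pow_ne_zero _ X_ne_zero), natDegree_X_pow] at h1
        have := hp.out.pos
        omega
    have := finrank_span_eq_card hli
    rwa [Matrix.range_cons_cons_empty, Fintype.card_fin] at this
  · rw [isSeparable_iff, not_not]
    simp only [wronskian, derivative_mul, derivative_X_pow, CharP.cast_eq_zero, map_zero, zero_mul, mul_zero, add_zero]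
    ring
  · refine Submodule.mem_span_pair.2 ⟨1, -(a ^ p), ?_⟩
    rw [sub_pow_char, ← C_pow, one_smul, smul_eq_C_mul, map_neg]
    ring

end Groth.L13.RamP1
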