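import Groth.Agent.L13.RamP1.Basic
import Groth.Agent.L13.RamP1.Inseparable
import Groth.Agent.L13.RamP1.ConeSlice

/-! Finitely many pencils with a full ramification divisor in degree below the characteristic. -/

set_option autoImplicit false
set_option linter.unusedSectionVars false

universe u

namespace Groth.L13.RamP1

open Polynomial W4c1limliniiii

variable {k : Type u} [Field k]

/-- `F ∧ G` -/
def wedge (d : ℕ) (F G : k[X]) : Fin (d + 1) × Fin (d + 1) → k := fun x => F.coeff x.1 * G.coeff x.2 - F.coeff x.2 * G.coeff x.1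

/-- the Wronskian of a two-vector -/
noncomputable def wron (d : ℕ) (ω : Fin (d + 1) × Fin (d + 1) → k) : k[X] :=
  ∑ x, C (ω x) * (X ^ (x.1 : ℕ) * derivative (X ^ (x.2 : ℕ)))

theorem sum_coeff_eq {d : ℕ} {F : k[X]} (hF : F.natDegree ≤ d) : F = ∑ i : Fin (d + 1), C (F.coeff i) * X ^ (i : ℕ) := by
  conv_lhs => rw [as_sum_range_C_mul_X_pow' (p := F) (Nat.lt_succ_of_le hF)]
  rw [Finset.sum_range]

theorem wron_wedge {d : ℕ} {F G : k[X]} (hF : F.natDegree ≤ d) (hG : G.natDegree ≤ d) :
    wron d (wedge d F G) = wronskian F G := by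
  let T : Fin (d + 1) → Fin (d + 1) → k[X] := fun a b => X ^ (a : ℕ) * derivative (X ^ (b : ℕ))
  have h2 : wronskian F G = ∑ a : Fin (d + 1), ∑ b : Fin (d + 1), C (F.coeff a * G.coeff b) * (T a b - T b a) := by
    conv_lhs => rw [sum_coeff_eq hF, sum_coeff_eq hG, ← wronskianBilin_apply]
    simp only [map_sum, LinearMap.sum_apply, wronskianBilin_apply]
    rw [Finset.sum_comm]
    refine Finset.sum_congr rfl fun a _ => Finset.sum_congr rfl fun b _ => ?_
    simp only [wronskian, derivative_C_mul, map_mul, T]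
    ring
  rw [h2]
  show ∑ x : Fin (d + 1) × Fin (d + 1), C (F.coeff x.1 * G.coeff x.2 - F.coeff x.2 * G.coeff x.1) * T x.1 x.2 = _
  rw [Fintype.sum_prod_type]
  simp only [map_sub, sub_mul, mul_sub, Finset.sum_sub_distrib]
  congr 1
  rw [Finset.sum_comm]

theorem span_eq_of_wedge_eq {d : ℕ} {F G F' G' : k[X]} (hF : F.natDegree ≤ d) (hG : G.natDegree ≤ d)
    (hF' : F'.natDegree ≤ d) (h : wedge d F' G' = wedge d F G) {i j : Fin (d + 1)} (hij : wedge d F G (i, j) ≠ 0) :
    F' ∈ Submodule.span k {F, G} := by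
  set D := wedge d F G (i, j) with hD
  refine Submodule.mem_span_pair.2 ⟨(F'.coeff i * G.coeff j - F'.coeff j * G.coeff i) / D,
    (F'.coeff j * F.coeff i - F'.coeff i * F.coeff j) / D, ?_⟩
  ext l
  simp only [coeff_add, coeff_smul, smul_eq_mul]
  by_cases hl : l ≤ d
  · have h1 := congrFun h (i, j)
    have h2 := congrFun h (i, ⟨l, by omega⟩)
    have h3 := congrFun h (j, ⟨l, by omega⟩)
    simp only [wedge] at h1 h2 h3 hD
    have hl' : F'.coeff l * D = (F'.coeff i * G.coeff j - F'.coeff j * G.coeff i) * F.coeff l +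
        (F'.coeff j * F.coeff i - F'.coeff i * F.coeff j) * G.coeff l := by
      rw [hD]
      linear_combination (-(F'.coeff l)) * h1 + F'.coeff j * h2 - F'.coeff i * h3
    rw [div_mul_eq_mul_div, div_mul_eq_mul_div, ← add_div, ← hl', mul_div_cancel_right₀ _ hij]
  · rw [coeff_eq_zero_of_natDegree_lt (show F.natDegree < l by omega), coeff_eq_zero_of_natDegree_lt (show G.natDegree < l by omega),
      coeff_eq_zero_of_natDegree_lt (show F'.natDegree < l by omega)]
    ring

theorem exists_pair_of_plucker {d : ℕ} {ω : Fin (d + 1) × Fin (d + 1) → k}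
    (hpl : ∀ a b c e, ω (a, b) * ω (c, e) - ω (a, c) * ω (b, e) + ω (a, e) * ω (b, c) = 0)
    {i j : Fin (d + 1)} (hij : ω (i, j) ≠ 0) :
    ∃ F G : k[X], F.natDegree ≤ d ∧ G.natDegree ≤ d ∧ wedge d F G = ω := by
  have hdeg : ∀ f : Fin (d + 1) → k, (∑ l : Fin (d + 1), C (f l) * X ^ (l : ℕ)).natDegree ≤ d := fun f =>
    natDegree_sum_le_of_forall_le _ _ fun l _ => (natDegree_C_mul_X_pow_le _ _).trans (Nat.le_of_lt_succ l.2)
  have hco : ∀ (f : Fin (d + 1) → k) (a : Fin (d + 1)), (∑ l : Fin (d + 1), C (f l) * X ^ (l : ℕ)).coeff a = f a := fun f a => by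
    simp [finsetSum_coeff, coeff_C_mul, coeff_X_pow, Fin.val_inj]
  refine ⟨_, _, hdeg (fun l => ω (i, l)), hdeg (fun l => ω (j, l) / ω (i, j)), funext fun x => ?_⟩
  obtain ⟨a, b⟩ := x
  simp only [wedge, hco]
  field_simp
  linear_combination (-1 : k) * hpl i j a b

theorem finite_ramMaps [IsAlgClosed k] {p d n : ℕ} [CharP k p] {P : Fin n → k} (hP : Function.Injective P)
    {e : Fin n → ℕ} (he : Admissible p d e) (hp : p = 0 ∨ d < p) : (ramMaps d P e).Finite := by
  classical
  let V2 := Fin (d + 1) × Fin (d + 1)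
  have hsum := sum_sub_one he
  have hDdeg : (ramPoly P e).natDegree = 2 * d - 2 := by rw [natDegree_ramPoly]; omega
  have hmonic : (ramPoly P e).Monic := monic_prod_of_monic _ _ fun i _ => (monic_X_sub_C _).pow _
  let D := 2 * d - 2
  let lin : ℕ → MvPolynomial V2 k := fun m =>
    ∑ x : V2, MvPolynomial.C ((X ^ (x.1 : ℕ) * derivative (X ^ (x.2 : ℕ)) : k[X]).coeff m) * MvPolynomial.X x
  have hlin : ∀ m, (lin m).IsHomogeneous 1 := fun m =>
    MvPolynomial.IsHomogeneous.sum _ _ _ fun x _ => MvPolynomial.IsHomogeneous.C_mul (MvPolynomial.isHomogeneous_X _ _) _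
  have hev : ∀ (m : ℕ) (ω : V2 → k), MvPolynomial.eval ω (lin m) = (wron d ω).coeff m := fun m ω => by
    simp [lin, wron, finsetSum_coeff, mul_comm]; rfl
  let Q := Fin (d + 1) × Fin (d + 1) × Fin (d + 1) × Fin (d + 1)
  let g : Q ⊕ ℕ → MvPolynomial V2 k := (Sum.elim (fun q => MvPolynomial.X (q.1, q.2.1) * MvPolynomial.X (q.2.2.1, q.2.2.2) -
        MvPolynomial.X (q.1, q.2.2.1) * MvPolynomial.X (q.2.1, q.2.2.2) + MvPolynomial.X (q.1, q.2.2.2) * MvPolynomial.X (q.2.1, q.2.2.1))
      (fun m => lin m - MvPolynomial.C ((ramPoly P e).coeff m) * lin D))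
  let dg : Q ⊕ ℕ → ℕ := Sum.elim (fun _ => 2) (fun _ => 1)
  have hg : ∀ j, (g j).IsHomogeneous (dg j) := by
    have hx : ∀ x : V2, (MvPolynomial.X x : MvPolynomial V2 k).IsHomogeneous 1 := fun x => MvPolynomial.isHomogeneous_X _ _
    rintro (q | m)
    · exact (((hx _).mul (hx _)).sub ((hx _).mul (hx _))).add ((hx _).mul (hx _))
    · exact (hlin m).sub ((hlin D).C_mul _)
  have hmain := finite_slice g dg hg (lin D) (hlin D) (by
    intro ω hω hD
    by_contra hne
    obtain ⟨⟨i, j⟩, hij⟩ := Function.ne_iff.1 hne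
    obtain ⟨F, G, hF, hG, rfl⟩ := exists_pair_of_plucker
      (fun a b c e' => by simpa [g] using hω (Sum.inl (a, b, c, e'))) hij
    have hw : wronskian F G = 0 := by
      rw [← wron_wedge hF hG]
      ext m
      have := hω (Sum.inr m)
      simp only [g, Sum.elim_inr, map_sub, map_mul, hD, mul_zero, sub_zero] at this
      rw [hev] at this
      simpa using this
    have hli : LinearIndependent k ![F, G] := by
      rw [LinearIndependent.pair_iff]
      intro s t hst
      have h1 := congrArg (fun q : k[X] => q.coeff i) hst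
      have h2 := congrArg (fun q : k[X] => q.coeff j) hst
      simp only [coeff_add, coeff_smul, smul_eq_mul, coeff_zero] at h1 h2
      have hs : s * wedge d F G (i, j) = 0 := by simp only [wedge]; linear_combination (G.coeff j) * h1 - (G.coeff i) * h2
      have ht : t * wedge d F G (i, j) = 0 := by simp only [wedge]; linear_combination (F.coeff i) * h2 - (F.coeff j) * h1
      exact ⟨(mul_eq_zero.1 hs).resolve_right hij, (mul_eq_zero.1 ht).resolve_right hij⟩
    have hrk := finrank_span_eq_card hli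
    rw [Matrix.range_cons_cons_empty, Fintype.card_fin] at hrk
    exact isSeparable_iff.1 (isSeparable_of_lt hp (Submodule.span_le.2 (by
      rintro x (rfl | rfl)
      · exact mem_degreeLE_of hF
      · exact mem_degreeLE_of hG)) hrk) hw)
  have hrep : ∀ V ∈ ramMaps d P e, ∃ F G : k[X], V = Submodule.span k {F, G} ∧ F.natDegree ≤ d ∧ G.natDegree ≤ d ∧
      wronskian F G = ramPoly P e := by
    intro V hV
    obtain ⟨hdeg, hrk, -, -⟩ := hV.1
    obtain ⟨F₀, hF₀, G₀, hG₀, hw0⟩ := hV.2.1
    obtain ⟨G, hG, hVs⟩ := exists_second hrk hF₀ (fun h => hw0 (by rw [h, wronskian_zero_left]))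
    have hw : wronskian F₀ G ≠ 0 := isSeparable_iff.1 (hVs ▸ hV.2.1)
    obtain ⟨c, hc⟩ := ramPoly_dvd_wronskian P hP e hrk hVs fun i => exists_of_mem hV i
    have hc0 : c ≠ 0 := fun h => hw (by rw [hc, h, mul_zero])
    have hle := (natDegree_wronskian_le hdeg hF₀ hG).1
    rw [hc, natDegree_mul (ramPoly_ne_zero P e) hc0, hDdeg] at hle
    obtain ⟨γ, rfl⟩ : ∃ γ, c = C γ := ⟨_, eq_C_of_natDegree_eq_zero (by omega)⟩
    have hγ : γ ≠ 0 := fun h => hc0 (by rw [h, map_zero])
    refine ⟨γ⁻¹ • F₀, G, ?_, (natDegree_smul_le _ _).trans (natDegree_le_of_mem (hdeg hF₀)), natDegree_le_of_mem (hdeg hG), ?_⟩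
    · rw [hVs]
      refine le_antisymm (Submodule.span_le.2 ?_) (Submodule.span_le.2 ?_)
      · rintro x (rfl | rfl)
        · exact Submodule.mem_span_pair.2 ⟨γ, 0, by rw [zero_smul, add_zero, smul_inv_smul₀ hγ]⟩
        · exact Submodule.subset_span (by simp)
      · rintro x (rfl | rfl)
        · exact Submodule.smul_mem _ _ (Submodule.subset_span (by simp))
        · exact Submodule.subset_span (by simp)
    · have : wronskian (γ⁻¹ • F₀) G = C γ⁻¹ * wronskian F₀ G := by
        simp only [wronskian, smul_eq_C_mul, derivative_C_mul]; ring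
      rw [this, hc, mul_left_comm, ← map_mul, inv_mul_cancel₀ hγ, map_one, mul_one]
  choose! Fc Gc hVs hFd hGd hW using hrep
  refine Set.Finite.of_finite_image (f := fun V => wedge d (Fc V) (Gc V)) (hmain.subset ?_) ?_
  · rintro _ ⟨V, hV, rfl⟩
    have hD : MvPolynomial.eval (wedge d (Fc V) (Gc V)) (lin D) = 1 := by
      rw [hev, wron_wedge (hFd V hV) (hGd V hV), hW V hV]
      show (ramPoly P e).coeff (2 * d - 2) = 1
      rw [← hDdeg]
      exact hmonic
    refine ⟨?_, hD⟩
    rintro (q | m)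
    · simp [g, wedge]; ring
    · simp only [g, Sum.elim_inr, map_sub, map_mul, hD, mul_one, MvPolynomial.eval_C]
      rw [hev, wron_wedge (hFd V hV) (hGd V hV), hW V hV, sub_self]
  · intro V hV V' hV' h
    have h : wedge d (Fc V) (Gc V) = wedge d (Fc V') (Gc V') := h
    have main : ∀ {U U' : Submodule k k[X]}, U ∈ ramMaps d P e → U' ∈ ramMaps d P e →
        wedge d (Fc U) (Gc U) = wedge d (Fc U') (Gc U') → U ≤ U' := by
      intro U U' hU hU' hh
      have hne : wedge d (Fc U') (Gc U') ≠ 0 := fun h0 => by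
        have h1 := wron_wedge (hFd U' hU') (hGd U' hU')
        rw [h0, hW U' hU'] at h1
        exact ramPoly_ne_zero P e (by rw [← h1]; simp [wron])
      obtain ⟨⟨i, j⟩, hij⟩ := Function.ne_iff.1 hne
      have hG : Gc U ∈ Submodule.span k {Fc U', Gc U'} := by
        have hh' : wedge d (Gc U) (-(Fc U)) = wedge d (Fc U') (Gc U') := by
          rw [← hh]; funext x; simp only [wedge, coeff_neg]; ring
        exact span_eq_of_wedge_eq (hFd U' hU') (hGd U' hU') (hGd U hU) hh' hij
      conv_lhs => rw [hVs U hU]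
      rw [hVs U' hU']
      refine Submodule.span_le.2 ?_
      rintro x (rfl | rfl)
      · exact span_eq_of_wedge_eq (hFd U' hU') (hGd U' hU') (hFd U hU) hh hij
      · exact hG
    exact le_antisymm (main hV hV' h) (main hV' hV h.symm)

end Groth.L13.RamP1
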