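import Groth.Agent.L13.RamP1.Generic
import Mathlib.FieldTheory.IsAlgClosed.Basic

/-! Pencils with ramification at general points: finiteness and separation. -/

set_option autoImplicit false
set_option linter.unusedSectionVars false

universe u

namespace Groth.L13.RamP1

open Polynomial W4c1limliniiii

section generic

variable {k : Type u} [Field k] [PerfectField k] {L : Type u} [Field L] [Algebra k L] [Algebra.EssFiniteType k L]
  {n d : ℕ} {e : Fin n → ℕ} {p : ℕ} [CharP k p]

/-- at a generic point with independent points the coefficients are algebraic over the points -/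
theorem coeff_isAlgebraic (he : Admissible p d e) {b : Fin (d + 1)} (hb : (b : ℕ) < d) {c : Fin n → Bool}
    {x : Fin n ⊕ CoefIdx d → L}
    (hgen : ∀ z : L, ∃ a b : MvPolynomial (Fin n ⊕ CoefIdx d) k,
      MvPolynomial.aeval x b ≠ 0 ∧ z = MvPolynomial.aeval x a / MvPolynomial.aeval x b)
    (heq : ∀ s, eqn x e b s = 0) (hopen : openC x c ≠ 0) (hind : AlgebraicIndependent k (x ∘ Sum.inl)) (t : CoefIdx d) :
    IsAlgebraic (Algebra.adjoin k (Set.range (x ∘ Sum.inl))) (x (Sum.inr t)) := by
  obtain ⟨S, hF, hG, ha, hbS, -⟩ := exists_datum e hb heq hopen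
  by_contra htr
  have hy := (hind.option_iff_transcendental (x (Sum.inr t))).2 htr
  have h1 := finrank_tangent_le e p he S b hbS (tangent e S b) le_rfl Finset.univ
    fun _ _ _ _ _ h i => h i (Finset.mem_univ i)
  have h2 := card_le_finrank e p he hgen heq S hF hG ha (tangent e S b) (fun _ _ h => h) hy
  rw [Cardinal.mk_fintype, Fintype.card_option, Fintype.card_fin, Nat.cast_le] at h2
  rw [Finset.card_univ, Fintype.card_fin] at h1
  omega

/-- at a generic point with two points having the same image the points are dependent -/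
theorem not_algebraicIndependent_of_tie (he : Admissible p d e) {b : Fin (d + 1)} (hb : (b : ℕ) < d) {c : Fin n → Bool}
    {x : Fin n ⊕ CoefIdx d → L}
    (hgen : ∀ z : L, ∃ a b : MvPolynomial (Fin n ⊕ CoefIdx d) k,
      MvPolynomial.aeval x b ≠ 0 ∧ z = MvPolynomial.aeval x a / MvPolynomial.aeval x b)
    (heq : ∀ s, eqn x e b s = 0) (hopen : openC x c ≠ 0) {i j : Fin n} (hij : i ≠ j) (htie : tie x i j = 0) :
    ¬ AlgebraicIndependent k (x ∘ Sum.inl) := by
  classical
  obtain ⟨S, hF, hG, ha, hbS, -⟩ := exists_datum e hb heq hopen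
  intro hind
  rw [tie, ← hF, ← hG, ← ha] at htie
  set fi := S.F.eval (S.a i) with hfi
  set fj := S.F.eval (S.a j) with hfj
  set gi := S.G.eval (S.a i) with hgi
  set gj := S.G.eval (S.a j) with hgj
  obtain ⟨lam, hlf, hlg⟩ : ∃ lam : L, fj = lam * fi ∧ gj = lam * gi := by
    by_cases hg0 : gi = 0
    · have hf0 : fi ≠ 0 := by
        have := S.pivot i
        split_ifs at this
        · exact absurd hg0 this
        · exact this
      have hgj0 : gj = 0 := by
        rw [hg0, mul_zero, sub_zero] at htie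
        exact (mul_eq_zero.1 htie).resolve_left hf0
      exact ⟨fj / fi, (div_mul_cancel₀ fj hf0).symm, by rw [hgj0, hg0, mul_zero]⟩
    · exact ⟨gj / gi, by field_simp; linear_combination -htie, (div_mul_cancel₀ gj hg0).symm⟩
  let φ : (CoefIdx d → L) →ₗ[L] L :=
    ((lam ^ 2) • Polynomial.leval (S.a i) - Polynomial.leval (S.a j)).comp (varMap S.F S.G)
  have hφ : ∀ v, φ v = lam ^ 2 * (varMap S.F S.G v).eval (S.a i) - (varMap S.F S.G v).eval (S.a j) := fun v => by
    simp [φ]
  have h1 := finrank_tangent_le e p he S b hbS (tangent e S b ⊓ LinearMap.ker φ) inf_le_left (Finset.univ.erase j) (by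
    intro α β γ v hv hJ l
    rcases eq_or_ne l j with rfl | hl
    · have h0 : φ v = 0 := hv.2
      rw [hφ] at h0
      have hi' := hJ i (Finset.mem_erase.2 ⟨hij, Finset.mem_univ _⟩)
      simp only [eval_add, eval_smul, eval_mul, eval_pow, smul_eq_mul, ← hfi, ← hfj, ← hgi, ← hgj] at hi' ⊢
      rw [hlf, hlg]
      linear_combination lam ^ 2 * hi' - h0
    · exact hJ l (Finset.mem_erase.2 ⟨hl, Finset.mem_univ _⟩))
  have h2 := card_le_finrank e p he hgen heq S hF hG ha (tangent e S b ⊓ LinearMap.ker φ) (fun D _ h => ⟨h, by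
    show φ _ = 0
    rw [hφ]
    have hd : dc D S.F = polyOf ((fun t => D (x (Sum.inr t))) ∘ Sum.inl) ∧
        dc D S.G = polyOf ((fun t => D (x (Sum.inr t))) ∘ Sum.inr) := by
      constructor <;> ext l <;> rw [coeff_dc] <;> simp only [hF, hG, fP, gP, coeff_polyOf] <;> split_ifs <;> simp
    show lam ^ 2 * (var S.F S.G (polyOf _) (polyOf _)).eval (S.a i) -
      (var S.F S.G (polyOf _) (polyOf _)).eval (S.a j) = 0
    rw [← hd.1, ← hd.2, S.eval_var D p he i, S.eval_var D p he j, ← hfi, ← hfj, ← hgi, ← hgj, hlf, hlg, Derivation.leibniz,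
      Derivation.leibniz]
    simp only [smul_eq_mul]
    ring⟩) hind
  rw [Cardinal.mk_fintype, Fintype.card_fin, Nat.cast_le] at h2
  rw [Finset.card_erase_of_mem (Finset.mem_univ j), Finset.card_univ, Fintype.card_fin] at h1
  have := i.2
  omega

end generic

section charts

variable {k : Type u} [Field k] [IsAlgClosed k] {n d : ℕ} {p : ℕ} [CharP k p] {e : Fin n → ℕ}

theorem chart_finite (he : Admissible p d e) {b : Fin (d + 1)} (hb : (b : ℕ) < d) (c : Fin n → Bool) :
    ∃ Φ : MvPolynomial (Fin n) k, Φ ≠ 0 ∧ ∀ P : Fin n → k, MvPolynomial.eval P Φ ≠ 0 →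
      {y : CoefIdx d → k | (∀ s, eqn (Sum.elim P y) e b s = 0) ∧ openC (Sum.elim P y) c ≠ 0}.Finite := by
  obtain ⟨Φ, h0, hΦ⟩ := (elimination (k := k) (n := n) (τ := CoefIdx d)
    (Ideal.span (Set.range (eqn (MvPolynomial.X : _ → MvPolynomial (Fin n ⊕ CoefIdx d) k) e b)))
    (openC MvPolynomial.X c)).1 (by
      intro L _ _ _ x hgen hI hh hind t
      have hx : ((MvPolynomial.aeval x).toRingHom : MvPolynomial (Fin n ⊕ CoefIdx d) k →+* L) ∘ MvPolynomial.X = x :=
        funext fun i => MvPolynomial.aeval_X x i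
      refine coeff_isAlgebraic (p := p) he hb (c := c) hgen (fun s => ?_) ?_ hind t
      · have := map_eqn MvPolynomial.X ((MvPolynomial.aeval x).toRingHom : MvPolynomial (Fin n ⊕ CoefIdx d) k →+* L) e b s
        rw [hx] at this
        rw [← this]
        exact hI _ (Ideal.subset_span ⟨s, rfl⟩)
      · have := map_openC MvPolynomial.X ((MvPolynomial.aeval x).toRingHom : MvPolynomial (Fin n ⊕ CoefIdx d) k →+* L) c
        rw [hx] at this
        rw [← this]
        exact hh)
  refine ⟨Φ, h0, fun P hP => (hΦ P hP).subset fun y hy => ?_⟩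
  have hx : (MvPolynomial.eval (Sum.elim P y) : MvPolynomial (Fin n ⊕ CoefIdx d) k →+* k) ∘ MvPolynomial.X = Sum.elim P y :=
    funext fun i => MvPolynomial.eval_X i
  refine ⟨fun f hf => ?_, ?_⟩
  · induction hf using Submodule.span_induction with
    | mem f hf =>
      obtain ⟨s, rfl⟩ := hf
      rw [map_eqn, hx]; exact hy.1 s
    | zero => exact map_zero _
    | add f g _ _ hf hg => rw [map_add, hf, hg, add_zero]
    | smul r f _ hf => rw [smul_eq_mul, map_mul, hf, mul_zero]
  · rw [map_openC, hx]; exact hy.2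

theorem chart_separate (he : Admissible p d e) {b : Fin (d + 1)} (hb : (b : ℕ) < d) (c : Fin n → Bool) {i j : Fin n} (hij : i ≠ j) :
    ∃ Φ : MvPolynomial (Fin n) k, Φ ≠ 0 ∧ ∀ P : Fin n → k, MvPolynomial.eval P Φ ≠ 0 →
      ∀ y : CoefIdx d → k, (∀ s, eqn (Sum.elim P y) e b s = 0) → openC (Sum.elim P y) c ≠ 0 →
        tie (Sum.elim P y) i j ≠ 0 := by
  obtain ⟨Φ, h0, hΦ⟩ := (elimination (k := k) (n := n) (τ := CoefIdx d)
    (Ideal.span (insert (tie MvPolynomial.X i j)
      (Set.range (eqn (MvPolynomial.X : _ → MvPolynomial (Fin n ⊕ CoefIdx d) k) e b))))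
    (openC MvPolynomial.X c)).2 (by
      intro L _ _ _ x hgen hI hh
      have hx : ((MvPolynomial.aeval x).toRingHom : MvPolynomial (Fin n ⊕ CoefIdx d) k →+* L) ∘ MvPolynomial.X = x :=
        funext fun i => MvPolynomial.aeval_X x i
      refine not_algebraicIndependent_of_tie (p := p) he hb (c := c) hgen (fun s => ?_) ?_ hij ?_
      · have := map_eqn MvPolynomial.X ((MvPolynomial.aeval x).toRingHom : MvPolynomial (Fin n ⊕ CoefIdx d) k →+* L) e b s
        rw [hx] at this
        rw [← this]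
        exact hI _ (Ideal.subset_span (Or.inr ⟨s, rfl⟩))
      · have := map_openC MvPolynomial.X ((MvPolynomial.aeval x).toRingHom : MvPolynomial (Fin n ⊕ CoefIdx d) k →+* L) c
        rw [hx] at this
        rw [← this]
        exact hh
      · have := map_tie MvPolynomial.X ((MvPolynomial.aeval x).toRingHom : MvPolynomial (Fin n ⊕ CoefIdx d) k →+* L) i j
        rw [hx] at this
        rw [← this]
        exact hI _ (Ideal.subset_span (Or.inl rfl)))
  refine ⟨Φ, h0, fun P hP y hy ho ht => ?_⟩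
  have hx : (MvPolynomial.eval (Sum.elim P y) : MvPolynomial (Fin n ⊕ CoefIdx d) k →+* k) ∘ MvPolynomial.X = Sum.elim P y :=
    funext fun i => MvPolynomial.eval_X i
  refine ho ?_
  rw [← hx, ← map_openC]
  refine hΦ P hP y fun f hf => ?_
  induction hf using Submodule.span_induction with
  | mem f hf =>
    rcases hf with rfl | ⟨s, rfl⟩
    · rw [map_tie, hx]; exact ht
    · rw [map_eqn, hx]; exact hy s
  | zero => exact map_zero _
  | add f g _ _ hf hg => rw [map_add, hf, hg, add_zero]
  | smul r f _ hf => rw [smul_eq_mul, map_mul, hf, mul_zero]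

/-- the echelon coordinates of a pencil -/
theorem exists_chart {P : Fin n → k} (hP : Function.Injective P) (he : Admissible p d e) {V : Submodule k k[X]}
    (hV : V ∈ ramMaps d P e) :
    ∃ (b : Fin (d + 1)) (c : Fin n → Bool) (y : CoefIdx d → k), (b : ℕ) < d ∧ (∀ s, eqn (Sum.elim P y) e b s = 0) ∧
      openC (Sum.elim P y) c ≠ 0 ∧ V = Submodule.span k {fP (Sum.elim P y), gP (Sum.elim P y)} := by
  classical
  obtain ⟨⟨hle, hrk, ⟨s0, hs0, hdeg⟩, hbpf⟩, hsep, hram⟩ := hV
  have hd0 : 1 ≤ d := by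
    by_contra h
    have hz : ∀ i : Fin n, False := fun i => by have := (he.1 i).1; have := (he.1 i).2.1; omega
    have := sum_sub_one he
    omega
  have hs00 : s0 ≠ 0 := fun h => by rw [h, natDegree_zero] at hdeg; omega
  have hlead : s0.coeff d ≠ 0 := hdeg ▸ leadingCoeff_ne_zero.2 hs00
  let F0 := (s0.coeff d)⁻¹ • s0
  have hF0V : F0 ∈ V := V.smul_mem _ hs0
  have hF0d : F0.coeff d = 1 := by simp [F0, coeff_smul, inv_mul_cancel₀ hlead]
  have hF00 : F0 ≠ 0 := fun h => by simp [h] at hF0d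
  obtain ⟨t, htV, hVs⟩ := exists_second hrk hF0V hF00
  let G0 := t - t.coeff d • F0
  have hG0V : G0 ∈ V := sub_mem htV (V.smul_mem _ hF0V)
  have hG00 : G0 ≠ 0 := by
    intro h
    have ht : t = t.coeff d • F0 := sub_eq_zero.1 h
    have h2 : V ≤ Submodule.span k {F0} := hVs ▸ Submodule.span_le.2 (by
      rintro z (rfl | rfl)
      · exact Submodule.mem_span_singleton_self _
      · exact Submodule.mem_span_singleton.2 ⟨_, ht.symm⟩)
    have := Submodule.finrank_mono h2
    rw [hrk, finrank_span_singleton hF00] at this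
    omega
  have hG0lt : G0.natDegree < d := by
    refine lt_of_le_of_ne (natDegree_le_of_mem (hle hG0V)) fun h => leadingCoeff_ne_zero.2 hG00 ?_
    rw [leadingCoeff, h]
    simp [G0, hF0d]
  let G := G0.leadingCoeff⁻¹ • G0
  have hGV : G ∈ V := V.smul_mem _ hG0V
  let F := F0 - F0.coeff G0.natDegree • G
  have hFV : F ∈ V := sub_mem hF0V (V.smul_mem _ hGV)
  have hGdeg : G.natDegree ≤ G0.natDegree := natDegree_smul_le _ _
  have hGb : G.coeff G0.natDegree = 1 := by
    rw [show G = G0.leadingCoeff⁻¹ • G0 from rfl, coeff_smul, smul_eq_mul, coeff_natDegree, inv_mul_cancel₀ (leadingCoeff_ne_zero.2 hG00)]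
  have hFd : F.coeff d = 1 := by
    simp [F, hF0d, coeff_eq_zero_of_natDegree_lt (lt_of_le_of_lt hGdeg hG0lt)]
  have hFb : F.coeff G0.natDegree = 0 := by simp [F, hGb]
  have hVFG : V = Submodule.span k {F, G} := by
    refine le_antisymm ?_ (Submodule.span_le.2 (by
      rintro z (rfl | rfl)
      · exact hFV
      · exact hGV))
    have hF0' : F0 ∈ Submodule.span k {F, G} := Submodule.mem_span_pair.2 ⟨1, F0.coeff G0.natDegree, by simp [F]⟩
    refine hVs.le.trans (Submodule.span_le.2 ?_)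
    rintro z (rfl | rfl)
    · exact hF0'
    · have hG' : G0 = G0.leadingCoeff • G := by
        simp [G, smul_smul, mul_inv_cancel₀ (leadingCoeff_ne_zero.2 hG00)]
      have : z = G0.leadingCoeff • G + z.coeff d • F0 := by rw [← hG']; simp [G0]
      rw [this]
      exact add_mem (Submodule.smul_mem _ _ (Submodule.subset_span (by simp))) (Submodule.smul_mem _ _ hF0')
  let y : CoefIdx d → k := Sum.elim (fun l => F.coeff l) (fun l => G.coeff l)
  have hpoly : ∀ q : k[X], q.natDegree ≤ d → polyOf (d := d) (fun l => q.coeff l) = q := fun q hq => by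
    ext l
    rw [coeff_polyOf]
    split_ifs with h
    · rfl
    · exact (coeff_eq_zero_of_natDegree_lt (by omega)).symm
  have hfP : fP (Sum.elim P y) = F := hpoly F (natDegree_le_of_mem (hle hFV))
  have hgP : gP (Sum.elim P y) = G := hpoly G (natDegree_le_of_mem (hle hGV))
  let b : Fin (d + 1) := ⟨G0.natDegree, by omega⟩
  let c : Fin n → Bool := fun i => decide (G.eval (P i) ≠ 0)
  refine ⟨b, c, y, hG0lt, ?_, ?_, by rw [hfP, hgP]; exact hVFG⟩
  · rintro (⟨i, j, hj⟩ | t' | ⟨l, hl⟩)
    · show (taylor (P i) (C ((gP (Sum.elim P y)).eval (P i)) * fP (Sum.elim P y) -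
        C ((fP (Sum.elim P y)).eval (P i)) * gP (Sum.elim P y))).coeff j = 0
      rw [hfP, hgP]
      refine taylor_of_dvd ?_ j hj
      obtain ⟨s, hsV, hs, hes⟩ := (hram i).1
      have hdvd : (X - C (P i)) ^ e i ∣ s := pow_dvd_of_le hes
      obtain ⟨α, β, rfl⟩ := Submodule.mem_span_pair.1 (hVFG ▸ hsV)
      have hroot : α * F.eval (P i) + β * G.eval (P i) = 0 := by
        have h0 : (α • F + β • G).IsRoot (P i) := dvd_iff_isRoot.1 ((dvd_pow_self _ (by have := (he.1 i).1; omega)).trans hdvd)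
        simpa using h0
      have hC : C α * C (F.eval (P i)) + C β * C (G.eval (P i)) = 0 := by
        rw [← map_mul, ← map_mul, ← map_add, hroot, map_zero]
      by_cases hα : α = 0
      · have hβ : β ≠ 0 := fun h => hs (by simp [hα, h])
        refine (IsUnit.dvd_mul_left (isUnit_C.2 hβ.isUnit)).1 (hdvd.trans ⟨-C (F.eval (P i)), ?_⟩)
        simp only [smul_eq_C_mul]
        linear_combination F * hC
      · refine (IsUnit.dvd_mul_left (isUnit_C.2 (Ne.isUnit hα))).1 (hdvd.trans ⟨C (G.eval (P i)), ?_⟩)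
        simp only [smul_eq_C_mul]
        linear_combination (-G) * hC
    · fin_cases t'
      · show F.coeff d - 1 = 0
        rw [hFd, sub_self]
      · exact hFb
      · show G.coeff G0.natDegree - 1 = 0
        rw [hGb, sub_self]
    · exact coeff_eq_zero_of_natDegree_lt (lt_of_le_of_lt hGdeg hl)
  · have hw : wronskian F G ≠ 0 := isSeparable_iff.1 (hVFG ▸ hsep)
    obtain ⟨γ, hγ⟩ := ramPoly_dvd_wronskian P hP e hrk hVFG fun i => (hram i).1
    have hγ0 : γ ≠ 0 := fun h => hw (by rw [hγ, h, mul_zero])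
    have hsum := sum_sub_one he
    have hwle := (natDegree_wronskian_le hle hFV hGV).1
    rw [hγ, natDegree_mul (ramPoly_ne_zero P e) hγ0, natDegree_ramPoly] at hwle
    obtain ⟨g, rfl⟩ : ∃ g, γ = C g := ⟨_, eq_C_of_natDegree_eq_zero (by omega)⟩
    rw [openC, hfP, hgP]
    refine mul_ne_zero (mul_ne_zero ?_ ?_) ?_
    · exact Finset.prod_ne_zero_iff.2 fun i _ => Finset.prod_ne_zero_iff.2 fun j hj =>
        sub_ne_zero.2 fun h => (Finset.mem_erase.1 hj).1 (hP h).symm
    · show (wronskian F G).coeff (2 * d - 2) ≠ 0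
      rw [hγ, coeff_mul_C, show 2 * d - 2 = (ramPoly P e).natDegree by rw [natDegree_ramPoly]; omega]
      exact mul_ne_zero (leadingCoeff_ne_zero.2 (ramPoly_ne_zero P e)) fun h => hγ0 (by rw [h, map_zero])
    · refine Finset.prod_ne_zero_iff.2 fun i _ => ?_
      show (if c i then G.eval (P i) else F.eval (P i)) ≠ 0
      by_cases hg : G.eval (P i) = 0
      · simp only [c, hg, ne_eq, not_true_eq_false, decide_false, Bool.false_eq_true, if_false]
        intro hf
        obtain ⟨s, hsV, hs⟩ := hbpf (P i)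
        obtain ⟨α, β, rfl⟩ := Submodule.mem_span_pair.1 (hVFG ▸ hsV)
        exact hs (by simp [hg, hf])
      · simp [c, hg]

/-- general position: finitely many pencils, and they separate the points -/
theorem finite_and_separate (he : Admissible p d e) :
    ∃ Φ : MvPolynomial (Fin n) k, Φ ≠ 0 ∧ ∀ P : Fin n → k, MvPolynomial.eval P Φ ≠ 0 →
      (ramMaps d P e).Finite ∧
        ∀ V ∈ ramMaps d P e, ∀ i j : Fin n, i ≠ j → ∀ s ∈ V, (s.IsRoot (P i) ∧ s.IsRoot (P j)) → s = 0 := by
  classical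
  choose Φ₁ h₁0 h₁ using fun bc : {b : Fin (d + 1) // (b : ℕ) < d} × (Fin n → Bool) => chart_finite (k := k) he bc.1.2 bc.2
  choose Φ₂ h₂0 h₂ using fun q : ({b : Fin (d + 1) // (b : ℕ) < d} × (Fin n → Bool)) × {ij : Fin n × Fin n // ij.1 ≠ ij.2} =>
    chart_separate (k := k) he q.1.1.2 q.1.2 q.2.2
  refine ⟨(∏ q, Φ₁ q) * (∏ q, Φ₂ q) * ∏ ij : {ij : Fin n × Fin n // ij.1 ≠ ij.2}, (MvPolynomial.X ij.1.1 - MvPolynomial.X ij.1.2),
    mul_ne_zero (mul_ne_zero (Finset.prod_ne_zero_iff.2 fun q _ => h₁0 q) (Finset.prod_ne_zero_iff.2 fun q _ => h₂0 q))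
      (Finset.prod_ne_zero_iff.2 fun ij _ => sub_ne_zero.2 fun h => ij.2 (MvPolynomial.X_injective h)), fun P hP => ?_⟩
  simp only [map_mul, map_prod, mul_ne_zero_iff, Finset.prod_ne_zero_iff, map_sub, MvPolynomial.eval_X] at hP
  obtain ⟨⟨hP1, hP2⟩, hP3⟩ := hP
  have hPinj : Function.Injective P := fun i j h => by
    by_contra hne
    exact hP3 ⟨(i, j), hne⟩ (Finset.mem_univ _) (sub_eq_zero.2 h)
  constructor
  · refine (Set.finite_iUnion fun q => (h₁ q P (hP1 q (Finset.mem_univ _))).image fun y : CoefIdx d → k =>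
      Submodule.span k {fP (Sum.elim P y), gP (Sum.elim P y)}).subset fun V hV => ?_
    obtain ⟨b, c, y, hb, heq, ho, rfl⟩ := exists_chart hPinj he hV
    exact Set.mem_iUnion.2 ⟨(⟨b, hb⟩, c), y, ⟨heq, ho⟩, rfl⟩
  · intro V hV i j hij s hs ⟨hi, hj⟩
    obtain ⟨b, c, y, hb, heq, ho, rfl⟩ := exists_chart hPinj he hV
    have hne := h₂ ((⟨b, hb⟩, c), ⟨(i, j), hij⟩) P (hP2 _ (Finset.mem_univ _)) y heq ho
    obtain ⟨α, β, rfl⟩ := Submodule.mem_span_pair.1 hs
    simp only [IsRoot, eval_add, eval_smul, smul_eq_mul] at hi hj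
    simp only [tie, pt, Sum.elim_inl] at hne
    have hα : α = 0 := (mul_eq_zero.1 (show α * _ = 0 by
      linear_combination (gP (Sum.elim P y)).eval (P j) * hi - (gP (Sum.elim P y)).eval (P i) * hj)).resolve_right hne
    have hβ : β = 0 := (mul_eq_zero.1 (show β * _ = 0 by
      linear_combination (fP (Sum.elim P y)).eval (P i) * hj - (fP (Sum.elim P y)).eval (P j) * hi)).resolve_right hne
    simp [hα, hβ]

end charts

end Groth.L13.RamP1
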