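import Groth.Agent.L13.RamP1.Deform
import Groth.Agent.L13.RamP1.Elimination
import Groth.Agent.L13.RamP1.Inseparable
import Mathlib.RingTheory.AlgebraicIndependent.Transcendental

/-! Finiteness of pencils with ramification at general points. -/

set_option autoImplicit false
set_option linter.unusedSectionVars false

universe u

namespace Groth.L13.RamP1

open Polynomial W4c1limliniiii

/-- coefficient indices of a pair of polynomials -/
abbrev CoefIdx (d : ℕ) := Fin (d + 1) ⊕ Fin (d + 1)

section expr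

variable {R : Type u} [CommRing R] {n d : ℕ}

/-- polynomial with given coefficients -/
noncomputable def polyOf (f : Fin (d + 1) → R) : R[X] := ∑ l : Fin (d + 1), C (f l) * X ^ (l : ℕ)

theorem coeff_polyOf (f : Fin (d + 1) → R) (j : ℕ) : (polyOf f).coeff j = if h : j < d + 1 then f ⟨j, h⟩ else 0 := by
  simp only [polyOf, finsetSum_coeff, coeff_C_mul, coeff_X_pow, mul_ite, mul_one, mul_zero]
  split_ifs with h
  · rw [Finset.sum_eq_single (⟨j, h⟩ : Fin (d + 1))]
    · simp
    · intro l _ hl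
      exact if_neg fun e => hl (Fin.ext e.symm)
    · simp
  · exact Finset.sum_eq_zero fun l _ => if_neg fun hl => h (by omega)

theorem natDegree_polyOf (f : Fin (d + 1) → R) : (polyOf f).natDegree ≤ d :=
  natDegree_sum_le_of_forall_le _ _ fun l _ => (natDegree_C_mul_X_pow_le _ _).trans (Nat.le_of_lt_succ l.2)

theorem map_polyOf {T : Type u} [CommRing T] (φ : R →+* T) (f : Fin (d + 1) → R) :
    (polyOf f).map φ = polyOf (φ ∘ f) := by
  simp [polyOf, Polynomial.map_sum]

variable (x : Fin n ⊕ CoefIdx d → R)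

/-- first polynomial -/
noncomputable def fP : R[X] := polyOf fun l => x (Sum.inr (Sum.inl l))

/-- second polynomial -/
noncomputable def gP : R[X] := polyOf fun l => x (Sum.inr (Sum.inr l))

/-- point -/
def pt (i : Fin n) : R := x (Sum.inl i)

/-- equations -/
noncomputable def eqn (e : Fin n → ℕ) (b : Fin (d + 1)) :
    (Σ i : Fin n, Fin (e i)) ⊕ Fin 3 ⊕ {l : Fin (d + 1) // b < l} → R :=
  Sum.elim
    (fun ij => (taylor (pt x ij.1) (C ((gP x).eval (pt x ij.1)) * fP x - C ((fP x).eval (pt x ij.1)) * gP x)).coeff ij.2)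
    (Sum.elim ![x (Sum.inr (Sum.inl (Fin.last d))) - 1, x (Sum.inr (Sum.inl b)), x (Sum.inr (Sum.inr b)) - 1]
      fun l => x (Sum.inr (Sum.inr l.1)))

/-- open condition -/
noncomputable def openC (c : Fin n → Bool) : R :=
  (∏ i, ∏ j ∈ Finset.univ.erase i, (pt x i - pt x j)) * (fP x * derivative (gP x) - derivative (fP x) * gP x).coeff (2 * d - 2) *
    ∏ i, if c i then (gP x).eval (pt x i) else (fP x).eval (pt x i)

/-- two points with the same image -/
noncomputable def tie (i j : Fin n) : R :=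
  (fP x).eval (pt x i) * (gP x).eval (pt x j) - (fP x).eval (pt x j) * (gP x).eval (pt x i)

variable {T : Type u} [CommRing T] (φ : R →+* T)

theorem map_fP : (fP x).map φ = fP (φ ∘ x) := map_polyOf φ _
theorem map_gP : (gP x).map φ = gP (φ ∘ x) := map_polyOf φ _

theorem eval_fP (i : Fin n) : φ ((fP x).eval (pt x i)) = (fP (φ ∘ x)).eval (pt (φ ∘ x) i) := by
  rw [← eval₂_hom, ← eval_map, map_fP]; rfl

theorem eval_gP (i : Fin n) : φ ((gP x).eval (pt x i)) = (gP (φ ∘ x)).eval (pt (φ ∘ x) i) := by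
  rw [← eval₂_hom, ← eval_map, map_gP]; rfl

theorem map_eqn (e : Fin n → ℕ) (b : Fin (d + 1)) (s) : φ (eqn x e b s) = eqn (φ ∘ x) e b s := by
  rcases s with ⟨i, j⟩ | t | l
  · show φ ((taylor (pt x i) _).coeff j) = _
    rw [← Polynomial.coeff_map, Polynomial.map_taylor, Polynomial.map_sub, Polynomial.map_mul, Polynomial.map_mul,
      Polynomial.map_C, Polynomial.map_C, map_fP, map_gP, eval_fP, eval_gP]
    rfl
  · fin_cases t <;> simp [eqn]
  · rfl

theorem map_openC (c : Fin n → Bool) : φ (openC x c) = openC (φ ∘ x) c := by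
  simp only [openC, map_mul, map_prod, map_sub, ← Polynomial.coeff_map, Polynomial.map_sub, Polynomial.map_mul,
    ← Polynomial.derivative_map, map_fP, map_gP]
  congr 1
  exact Finset.prod_congr rfl fun i _ => by
    split_ifs <;> first | exact eval_gP x φ i | exact eval_fP x φ i

theorem map_tie (i j : Fin n) : φ (tie x i j) = tie (φ ∘ x) i j := by
  simp only [tie, map_sub, map_mul, eval_fP, eval_gP]

end expr

section points

variable {L : Type u} [Field L] {n d : ℕ} (e : Fin n → ℕ)

theorem dvd_of_taylor {a : L} {q : L[X]} {m : ℕ} (h : ∀ j < m, (taylor a q).coeff j = 0) : (X - C a) ^ m ∣ q := by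
  obtain ⟨r, hr⟩ := Polynomial.X_pow_dvd_iff.2 h
  refine ⟨r.comp (X - C a), ?_⟩
  have h1 := congrArg (fun z : L[X] => z.comp (X - C a)) hr
  simp only [taylor_apply, comp_assoc, mul_comp, X_pow_comp, add_comp, X_comp, C_comp, sub_add_cancel, comp_X] at h1
  exact h1

theorem taylor_of_dvd {a : L} {q : L[X]} {m : ℕ} (h : (X - C a) ^ m ∣ q) : ∀ j < m, (taylor a q).coeff j = 0 := by
  obtain ⟨r, rfl⟩ := h
  refine Polynomial.X_pow_dvd_iff.1 ⟨taylor a r, ?_⟩
  simp [taylor_apply, mul_comp]

theorem exists_datum {b : Fin (d + 1)} (hb : (b : ℕ) < d) {x : Fin n ⊕ CoefIdx d → L} {c : Fin n → Bool}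
    (heq : ∀ s, eqn x e b s = 0) (hopen : openC x c ≠ 0) :
    ∃ S : Datum (L := L) d e, S.F = fP x ∧ S.G = gP x ∧ S.a = pt x ∧ S.b = b ∧ S.c = c := by
  rw [openC, mul_ne_zero_iff, mul_ne_zero_iff, Finset.prod_ne_zero_iff, Finset.prod_ne_zero_iff] at hopen
  obtain ⟨⟨h1, h2⟩, h3⟩ := hopen
  refine ⟨{ a := pt x, b := b, F := fP x, G := gP x, c := c, a_inj := ?_, b_lt := hb, F_deg := natDegree_polyOf _,
            F_d := ?_, F_b := ?_, G_deg := ?_, G_b := ?_, dvd := fun i => dvd_of_taylor fun j hj => heq (Sum.inl ⟨i, ⟨j, hj⟩⟩),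
            w_ne := h2, pivot := fun i => ?_ }, rfl, rfl, rfl, rfl, rfl⟩
  · intro i j hij
    by_contra hne
    have := h1 i (Finset.mem_univ _)
    rw [Finset.prod_ne_zero_iff] at this
    exact this j (Finset.mem_erase.2 ⟨Ne.symm hne, Finset.mem_univ _⟩) (sub_eq_zero.2 hij)
  · rw [fP, coeff_polyOf, dif_pos (Nat.lt_succ_self d)]
    exact sub_eq_zero.1 (heq (Sum.inr (Sum.inl 0)))
  · rw [fP, coeff_polyOf, dif_pos b.2]
    exact heq (Sum.inr (Sum.inl 1))
  · rw [natDegree_le_iff_coeff_eq_zero]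
    intro N hN
    rw [gP, coeff_polyOf]
    split_ifs with h
    · exact heq (Sum.inr (Sum.inr ⟨⟨N, h⟩, hN⟩))
    · rfl
  · rw [gP, coeff_polyOf, dif_pos b.2]
    exact sub_eq_zero.1 (heq (Sum.inr (Sum.inl 2)))
  · have := h3 i (Finset.mem_univ _)
    split_ifs at this ⊢ <;> assumption

/-- the tangent space in coefficient coordinates -/
noncomputable def varMap (F G : L[X]) : (CoefIdx d → L) →ₗ[L] L[X] where
  toFun v := var F G (polyOf (v ∘ Sum.inl)) (polyOf (v ∘ Sum.inr))
  map_add' v w := by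
    simp only [var, polyOf, Function.comp_apply, Pi.add_apply, map_add, add_mul, Finset.sum_add_distrib]; ring
  map_smul' r v := by
    simp only [var, polyOf, Function.comp_apply, Pi.smul_apply, smul_eq_mul, map_mul, mul_assoc, ← Finset.mul_sum, RingHom.id_apply,
      smul_eq_C_mul]
    ring

/-- normalised tangent vectors -/
noncomputable def tangent (S : Datum (L := L) d e) (b : Fin (d + 1)) : Submodule L (CoefIdx d → L) where
  carrier := {v | v (Sum.inl (Fin.last d)) = 0 ∧ v (Sum.inl b) = 0 ∧ v (Sum.inr b) = 0 ∧ (∀ l, b < l → v (Sum.inr l) = 0) ∧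
    ∀ i, varMap S.F S.G v ∈ S.congSpace i}
  add_mem' := by
    rintro v w ⟨a1, a2, a3, a4, a5⟩ ⟨b1, b2, b3, b4, b5⟩
    refine ⟨?_, ?_, ?_, fun l hl => ?_, fun i => ?_⟩
    · simp [a1, b1]
    · simp [a2, b2]
    · simp [a3, b3]
    · simp [a4 l hl, b4 l hl]
    · rw [map_add]; exact add_mem (a5 i) (b5 i)
  zero_mem' := ⟨rfl, rfl, rfl, fun _ _ => rfl, fun i => by rw [map_zero]; exact zero_mem _⟩
  smul_mem' := by
    rintro r v ⟨a1, a2, a3, a4, a5⟩
    refine ⟨?_, ?_, ?_, fun l hl => ?_, fun i => ?_⟩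
    · simp [a1]
    · simp [a2]
    · simp [a3]
    · simp [a4 l hl]
    · rw [map_smul]; exact Submodule.smul_mem _ _ (a5 i)

theorem finrank_tangent_le (p : ℕ) (he : Admissible p d e) (S : Datum (L := L) d e) (b : Fin (d + 1)) (hb : S.b = b)
    (W : Submodule L (CoefIdx d → L)) (hW : W ≤ tangent e S b) (J : Finset (Fin n))
    (hJ : ∀ (α β γ : L), ∀ v ∈ W, (∀ i ∈ J, (varMap (d := d) S.F S.G v + (α • S.F ^ 2 + β • (S.F * S.G) + γ • S.G ^ 2)).eval (S.a i) = 0) →
      ∀ i, (varMap (d := d) S.F S.G v + (α • S.F ^ 2 + β • (S.F * S.G) + γ • S.G ^ 2)).eval (S.a i) = 0) :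
    Module.finrank L W ≤ J.card := by
  classical
  have hcop := S.isCoprime p he
  have hsum := sum_sub_one he
  let Θ : W × (L × L × L) →ₗ[L] L[X] :=
    (varMap S.F S.G).comp (W.subtype.comp (LinearMap.fst L W (L × L × L))) +
      ((LinearMap.toSpanSingleton L L[X] (S.F ^ 2)).comp (LinearMap.fst L L (L × L)) +
        ((LinearMap.toSpanSingleton L L[X] (S.F * S.G)).comp ((LinearMap.fst L L L).comp (LinearMap.snd L L (L × L))) +
          (LinearMap.toSpanSingleton L L[X] (S.G ^ 2)).comp ((LinearMap.snd L L L).comp (LinearMap.snd L L (L × L))))).comp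
        (LinearMap.snd L W (L × L × L))
  have hΘ : ∀ (v : W) (α β γ : L), Θ (v, α, β, γ) = varMap (d := d) S.F S.G v + (α • S.F ^ 2 + β • (S.F * S.G) + γ • S.G ^ 2) := by
    intro v α β γ
    simp [Θ, add_assoc]
  have hinj : LinearMap.ker Θ = ⊥ := by
    rw [Submodule.eq_bot_iff]
    rintro ⟨v, α, β, γ⟩ hv
    rw [LinearMap.mem_ker, hΘ] at hv
    obtain ⟨v, hvW⟩ := v
    obtain ⟨v1, v2, v3, v4, -⟩ := hW hvW
    set vF := polyOf (v ∘ Sum.inl) with hvF
    set vG := polyOf (v ∘ Sum.inr) with hvG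
    have hv' : S.G * (vF + β • S.F + γ • S.G) = S.F * (vG - α • S.F) := by
      have : var S.F S.G vF vG + (α • S.F ^ 2 + β • (S.F * S.G) + γ • S.G ^ 2) = 0 := hv
      simp only [var, smul_eq_C_mul] at this ⊢
      linear_combination this
    obtain ⟨t, ht⟩ : S.F ∣ vF + β • S.F + γ • S.G := hcop.dvd_of_dvd_mul_left ⟨_, hv'⟩
    have hFne : S.F ≠ 0 := fun h => by simpa [h] using S.F_d
    have hG' : vG - α • S.F = S.G * t := mul_left_cancel₀ hFne (by rw [← hv', ht]; ring)
    have hdeg : t.natDegree = 0 := by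
      by_cases ht0 : t = 0
      · simp [ht0]
      have h1 : (S.F * t).natDegree ≤ d := by
        rw [← ht]
        refine natDegree_add_le_of_degree_le (natDegree_add_le_of_degree_le (natDegree_polyOf _) ((natDegree_smul_le _ _).trans S.F_deg))
          ((natDegree_smul_le _ _).trans (S.G_deg.trans S.b_lt.le))
      rw [natDegree_mul hFne ht0, S.F_natDegree] at h1
      omega
    obtain ⟨t, rfl⟩ : ∃ r, t = C r := ⟨_, eq_C_of_natDegree_eq_zero hdeg⟩
    have cG : ∀ j : Fin (d + 1), v (Sum.inr j) - α * S.F.coeff j = S.G.coeff j * t := fun j => by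
      have := congrArg (fun q : L[X] => q.coeff j) hG'
      simpa [hvG, coeff_polyOf, coeff_mul_C, Nat.lt_succ_iff, Nat.le_of_lt_succ j.2] using this
    have cF : ∀ j : Fin (d + 1), v (Sum.inl j) + β * S.F.coeff j + γ * S.G.coeff j = S.F.coeff j * t := fun j => by
      have := congrArg (fun q : L[X] => q.coeff j) ht
      simpa [hvF, coeff_polyOf, coeff_mul_C, Nat.lt_succ_iff, Nat.le_of_lt_succ j.2] using this
    have hlast : b < Fin.last d := by
      have := S.b_lt
      rw [hb] at this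
      exact this
    have hFb : S.F.coeff b = 0 := hb ▸ S.F_b
    have hGb : S.G.coeff b = 1 := hb ▸ S.G_b
    have hα : α = 0 := by
      have := cG (Fin.last d)
      rw [v4 _ hlast, Fin.val_last, S.F_d, S.G_d, mul_one, zero_sub, zero_mul, neg_eq_zero] at this
      exact this
    have ht0 : t = 0 := by
      have := cG b
      rw [v3, hα, hGb, zero_mul, sub_zero, one_mul] at this
      exact this.symm
    have hβ : β = 0 := by
      have := cF (Fin.last d)
      rw [v1, Fin.val_last, S.F_d, S.G_d, ht0, mul_zero, add_zero, zero_add, mul_one, mul_zero] at this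
      exact this
    have hγ : γ = 0 := by
      have := cF b
      rw [v2, hFb, hGb, hβ, ht0] at this
      simpa using this
    have hv0 : v = 0 := by
      funext j
      rcases j with j | j
      · simpa [hβ, hγ, ht0] using cF j
      · simpa [hα, ht0] using cG j
    simp [hv0, hα, hβ, hγ]
  let ev : L[X] →ₗ[L] (J → L) := LinearMap.pi fun i => Polynomial.leval (S.a i.1)
  have hK : (LinearMap.ker (ev.comp Θ)).map Θ ≤
      (degreeLT L 3).map (LinearMap.mulLeft L (ramPoly S.a e)) := by
    rintro _ ⟨⟨v, α, β, γ⟩, hv, rfl⟩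
    have hev : ∀ i ∈ J, (Θ (v, α, β, γ)).eval (S.a i) = 0 := fun i hi => congrFun hv ⟨i, hi⟩
    simp only [hΘ] at hev ⊢
    have hall := hJ α β γ v v.2 hev
    obtain ⟨v1, v2, v3, v4, v5⟩ := hW v.2
    set h := varMap (d := d) S.F S.G v + (α • S.F ^ 2 + β • (S.F * S.G) + γ • S.G ^ 2) with hh
    have hdvd : ramPoly S.a e ∣ h := by
      refine Finset.prod_dvd_of_coprime (fun i _ j _ hij => ?_) fun i _ => ?_
      · exact (isCoprime_X_sub_C_of_isUnit_sub ((sub_ne_zero.2 fun h => hij (S.a_inj h)).isUnit)).pow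
      · have := (S.mem_congSpace).1 (add_mem (v5 i) (S.quad_mem_congSpace i α β γ))
        rw [← hh, hall i, map_zero, zero_mul, sub_zero] at this
        refine (IsUnit.dvd_mul_left (isUnit_C.2 ?_)).1 this
        simp only [Datum.U, eval_pow]
        exact (pow_ne_zero _ (S.pivot i)).isUnit
    obtain ⟨r, hr⟩ := hdvd
    refine ⟨r, ?_, hr.symm⟩
    rw [SetLike.mem_coe, mem_degreeLT]
    by_cases hr0 : r = 0
    · rw [hr0, degree_zero]; exact WithBot.bot_lt_coe _
    have hFd := S.F_deg
    have hGd : S.G.natDegree ≤ d := S.G_deg.trans S.b_lt.le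
    have hdeg : h.natDegree ≤ 2 * d := by
      refine natDegree_add_le_of_degree_le ?_ (natDegree_add_le_of_degree_le (natDegree_add_le_of_degree_le ?_ ?_) ?_)
      · refine (natDegree_sub_le _ _).trans (max_le ?_ ?_) <;> refine natDegree_mul_le.trans ?_
        · have := natDegree_polyOf ((v : CoefIdx d → L) ∘ Sum.inl); omega
        · have := natDegree_polyOf ((v : CoefIdx d → L) ∘ Sum.inr); omega
      · exact (natDegree_smul_le _ _).trans (natDegree_pow_le.trans (by omega))
      · exact (natDegree_smul_le _ _).trans (natDegree_mul_le.trans (by omega))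
      · exact (natDegree_smul_le _ _).trans (natDegree_pow_le.trans (by omega))
    rw [hr, natDegree_mul (ramPoly_ne_zero S.a e) hr0, natDegree_ramPoly] at hdeg
    exact degree_lt_iff_coeff_zero _ _ |>.2 fun j hj => coeff_eq_zero_of_natDegree_lt (by omega)
  have : FiniteDimensional L (degreeLT L 3) := Module.Finite.equiv (degreeLTEquiv L _).symm
  have h3 : Module.finrank L ((degreeLT L 3).map (LinearMap.mulLeft L (ramPoly S.a e))) ≤ 3 := by
    refine (Submodule.finrank_map_le _ _).trans ?_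
    rw [(degreeLTEquiv L 3).finrank_eq, Module.finrank_fin_fun]
  have : FiniteDimensional L ((degreeLT L 3).map (LinearMap.mulLeft L (ramPoly S.a e))) := inferInstance
  have h4 := Submodule.finrank_mono hK
  have h5 : Module.finrank L ((LinearMap.ker (ev.comp Θ)).map Θ) = Module.finrank L (LinearMap.ker (ev.comp Θ)) :=
    (Submodule.equivMapOfInjective Θ (LinearMap.ker_eq_bot.1 hinj) _).finrank_eq.symm
  have h6 := LinearMap.finrank_range_add_finrank_ker (ev.comp Θ)
  have h7 := Submodule.finrank_le (LinearMap.range (ev.comp Θ))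
  simp only [Module.finrank_prod, Module.finrank_self, Module.finrank_fintype_fun_eq_card, Fintype.card_coe] at h6 h7
  omega

variable {k : Type u} [Field k] [Algebra k L] [PerfectField k] [Algebra.EssFiniteType k L]

theorem card_le_finrank (p : ℕ) [CharP k p] (he : Admissible p d e) {b : Fin (d + 1)} {x : Fin n ⊕ CoefIdx d → L}
    (hgen : ∀ z : L, ∃ a b : MvPolynomial (Fin n ⊕ CoefIdx d) k,
      MvPolynomial.aeval x b ≠ 0 ∧ z = MvPolynomial.aeval x a / MvPolynomial.aeval x b)
    (heq : ∀ s, eqn x e b s = 0) (S : Datum (L := L) d e) (hF : S.F = fP x) (hG : S.G = gP x) (ha : S.a = pt x)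
    (W : Submodule L (CoefIdx d → L))
    (hW : ∀ D : Derivation k L L, (∀ i, varMap S.F S.G (fun t => D (x (Sum.inr t))) ∈ S.congSpace i) →
      (fun t => D (x (Sum.inr t))) ∈ tangent e S b → (fun t => D (x (Sum.inr t))) ∈ W)
    {ι : Type} {y : ι → L} (hy : AlgebraicIndependent k y) :
    Cardinal.mk ι ≤ (Module.finrank L W : Cardinal) := by
  classical
  let Φ : (Ω[L⁄k] →ₗ[L] L) →ₗ[L] (CoefIdx d → L) :=
    LinearMap.pi fun t => LinearMap.applyₗ (KaehlerDifferential.D k L (x (Sum.inr t)))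
  have hΦ : ∀ ℓ, Φ ℓ = fun t => ℓ.compDer (KaehlerDifferential.D k L) (x (Sum.inr t)) := fun ℓ => rfl
  have hdc : ∀ D : Derivation k L L, dc D S.F = polyOf ((fun t => D (x (Sum.inr t))) ∘ Sum.inl) ∧
      dc D S.G = polyOf ((fun t => D (x (Sum.inr t))) ∘ Sum.inr) := by
    intro D
    constructor <;> ext j <;> rw [coeff_dc] <;> simp only [hF, hG, fP, gP, coeff_polyOf] <;> split_ifs <;> simp
  have hmem : ∀ ℓ, Φ ℓ ∈ W := by
    intro ℓ
    rw [hΦ]
    set D := ℓ.compDer (KaehlerDifferential.D k L)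
    have hvar : ∀ i, varMap S.F S.G (fun t => D (x (Sum.inr t))) ∈ S.congSpace i := fun i => by
      have := S.var_mem_congSpace D p he i
      rw [(hdc D).1, (hdc D).2] at this
      exact this
    refine hW D hvar ⟨?_, ?_, ?_, fun l hl => ?_, hvar⟩
    · show D _ = 0
      rw [sub_eq_zero.1 (heq (Sum.inr (Sum.inl 0)) : x (Sum.inr (Sum.inl (Fin.last d))) - 1 = 0), Derivation.map_one_eq_zero]
    · show D _ = 0
      have h0 : x (Sum.inr (Sum.inl b)) = 0 := heq (Sum.inr (Sum.inl 1))
      rw [h0, map_zero]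
    · show D _ = 0
      rw [sub_eq_zero.1 (heq (Sum.inr (Sum.inl 2)) : x (Sum.inr (Sum.inr b)) - 1 = 0), Derivation.map_one_eq_zero]
    · show D _ = 0
      have h0 : x (Sum.inr (Sum.inr l)) = 0 := heq (Sum.inr (Sum.inr ⟨l, hl⟩))
      rw [h0, map_zero]
  refine card_le_finrank_dual (k := k) hy (Φ.codRestrict W hmem) ?_
  rw [← LinearMap.ker_eq_bot, LinearMap.ker_codRestrict, Submodule.eq_bot_iff]
  intro ℓ hℓ
  set D := ℓ.compDer (KaehlerDifferential.D k L)
  have hD : ∀ t, D (x (Sum.inr t)) = 0 := fun t => congrFun hℓ t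
  have h0 : dc D S.F = 0 ∧ dc D S.G = 0 := by
    rw [(hdc D).1, (hdc D).2]
    constructor <;> ext j <;> rw [coeff_polyOf] <;> split_ifs <;> simp [hD]
  have hD0 : D = 0 := derivation_eq_zero x hgen D fun i => by
    rcases i with i | t
    · have := S.map_point_eq_zero D p he h0.1 h0.2 i
      rw [ha] at this
      exact this
    · exact hD t
  refine LinearMap.ext_on (KaehlerDifferential.span_range_derivation k L) ?_
  rintro _ ⟨z, rfl⟩
  exact congrArg (fun E : Derivation k L L => E z) hD0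

end points

end Groth.L13.RamP1
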