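import Groth.Agent.L13.RamP1.Basic
import Mathlib.RingTheory.DiscreteValuationRing.Basic
import Mathlib.RingTheory.Valuation.ValuationRing
import Mathlib.Algebra.Polynomial.Expand
import Mathlib.Algebra.CharP.Algebra

/-! The separable pencil attached to a degeneration to an inseparable one. -/

set_option autoImplicit false
set_option linter.unusedSectionVars false

universe u

namespace Groth.L13.RamP1

open Polynomial W4c1limliniiii

section general

variable {k : Type u} [Field k]

theorem coeff_wronskian_top {s t : k[X]} (h : 1 ≤ s.natDegree + t.natDegree) :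
    (wronskian s t).coeff (s.natDegree + t.natDegree - 1) =
      ((t.natDegree : k) - s.natDegree) * (s.leadingCoeff * t.leadingCoeff) := by
  have key : ∀ a b : k[X], 1 ≤ a.natDegree + b.natDegree →
      (a * derivative b).coeff (a.natDegree + b.natDegree - 1) = (b.natDegree : k) * (a.leadingCoeff * b.leadingCoeff) := by
    intro a b hab
    rcases Nat.eq_zero_or_pos b.natDegree with hb | hb
    · rw [eq_C_of_natDegree_eq_zero hb, derivative_C, mul_zero, coeff_zero, natDegree_C, Nat.cast_zero, zero_mul]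
    · rw [show a.natDegree + b.natDegree - 1 = a.natDegree + (b.natDegree - 1) by omega,
        coeff_mul_add_eq_of_natDegree_le le_rfl (natDegree_derivative_le b), coeff_derivative,
        show b.natDegree - 1 + 1 = b.natDegree by omega]
      have : ((b.natDegree - 1 : ℕ) : k) + 1 = (b.natDegree : k) := by
        exact_mod_cast congrArg (Nat.cast : ℕ → k) (show b.natDegree - 1 + 1 = b.natDegree by omega)
      rw [this]
      rw [leadingCoeff, leadingCoeff]; ring
  rw [wronskian, coeff_sub, key s t h, mul_comm (derivative s) t, add_comm s.natDegree, key t s (by omega)]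
  ring

theorem wronskian_ne_zero_of_mod {p : ℕ} [CharP k p] {s t : k[X]} (hs : s ≠ 0) (ht : t ≠ 0)
    (h : s.natDegree % p ≠ t.natDegree % p) : wronskian s t ≠ 0 := fun h0 => by
  have hne : 1 ≤ s.natDegree + t.natDegree := by
    by_contra hlt
    exact h (by rw [show s.natDegree = 0 by omega, show t.natDegree = 0 by omega])
  have := coeff_wronskian_top hne
  rw [h0, coeff_zero, eq_comm, mul_eq_zero, mul_eq_zero] at this
  rcases this with h1 | h1 | h1
  · exact h ((CharP.natCast_eq_natCast k p).1 (sub_eq_zero.1 h1)).symm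
  · exact hs (leadingCoeff_eq_zero.1 h1)
  · exact ht (leadingCoeff_eq_zero.1 h1)

/-- a pencil whose Wronskian is the ramification divisor has that ramification and no finite base points -/
theorem bpf_and_ram {n : ℕ} {P : Fin n → k} (hP : Function.Injective P) {e : Fin n → ℕ} (he : ∀ i, 1 ≤ e i)
    {N h : k[X]} {c : k} (hc : c ≠ 0) (hW : wronskian N h = C c * ramPoly P e)
    (hmem : ∀ i, ∃ s ∈ Submodule.span k {N, h}, s ≠ 0 ∧ (X - C (P i)) ^ e i ∣ s) :
    (∀ a : k, ∃ s ∈ Submodule.span k {N, h}, s.eval a ≠ 0) ∧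
      ∀ i, HasRamIdx (Submodule.span k {N, h}) (P i) (e i) := by
  classical
  have hW0 : wronskian N h ≠ 0 := by rw [hW]; exact mul_ne_zero (C_ne_zero.2 hc) (ramPoly_ne_zero P e)
  have hrk := finrank_span_pair_of_wronskian hW0
  have key : ∀ i, ¬ (X - C (P i)) ^ e i ∣ wronskian N h := fun i hd => by
    rw [hW, IsUnit.dvd_mul_left (isUnit_C.2 hc.isUnit)] at hd
    exact not_dvd_ramPoly P hP e i (by rwa [Nat.sub_add_cancel (he i)])
  have trans' : ∀ s t : k[X], Submodule.span k {N, h} = Submodule.span k {s, t} → ∀ i,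
      (X - C (P i)) ^ e i ∣ wronskian s t → False := fun s t heq i hd => by
    obtain ⟨a, ha⟩ := exists_smul_wronskian (F := s) (G := t) (heq ▸ Submodule.subset_span (by simp) : N ∈ _)
      (heq ▸ Submodule.subset_span (by simp) : h ∈ _)
    exact key i (ha ▸ hd.mul_left _)
  refine ⟨fun a => ?_, fun i => ⟨?_, fun s hs hs0 => ?_⟩⟩
  · by_contra hall
    push Not at hall
    have hroot : ∀ s ∈ Submodule.span k {N, h}, (X - C a) ∣ s := fun s hs => dvd_iff_isRoot.2 (hall s hs)
    by_cases ha : ∃ i, P i = a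
    · obtain ⟨i, rfl⟩ := ha
      obtain ⟨s, hs, hs0, hd⟩ := hmem i
      obtain ⟨r, hr, hVr⟩ := exists_second hrk hs hs0
      exact trans' s r hVr i (dvd_wronskian_of_both hd (hroot r hr))
    · have h1 : (X - C a) ∣ wronskian N h := by
        simpa using dvd_wronskian_of_both (m := 1) (by simpa using hroot N (Submodule.subset_span (by simp)))
          (hroot h (Submodule.subset_span (by simp)))
      rw [hW, IsUnit.dvd_mul_left (isUnit_C.2 hc.isUnit), dvd_iff_isRoot, IsRoot, ramPoly, eval_prod, Finset.prod_eq_zero_iff] at h1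
      obtain ⟨i, -, h2⟩ := h1
      rw [eval_pow, eval_sub, eval_X, eval_C] at h2
      exact ha ⟨i, (sub_eq_zero.1 (eq_zero_of_pow_eq_zero h2)).symm⟩
  · obtain ⟨s, hs, hs0, hd⟩ := hmem i
    exact ⟨s, hs, hs0, le_of_pow_dvd hs0 hd⟩
  · by_contra hgt
    push Not at hgt
    obtain ⟨r, hr, hVr⟩ := exists_second hrk hs hs0
    have := dvd_wronskian_of_left (t := r) (pow_dvd_of_le (show e i + 1 ≤ rootMultiplicity (P i) s by omega))
    exact trans' s r hVr i (by simpa using this)

theorem expand_dvd_sub_eval {p : ℕ} [Fact p.Prime] [CharP k p] (a : k) {m : ℕ} (hm : m ≤ p) (u : k[X]) :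
    (X - C a) ^ m ∣ expand k p u - C (u.eval (a ^ p)) := by
  refine (pow_dvd_pow _ hm).trans ?_
  have : (X - C (a ^ p)) ∣ u - C (u.eval (a ^ p)) := X_sub_C_dvd_sub_C_eval
  have := map_dvd (expand k p) this
  rw [map_sub, map_sub, expand_X, expand_C, expand_C, map_pow, ← sub_pow_char] at this
  exact this

end general

section scale

variable {A : Type u} [CommRing A] [IsDomain A] [ValuationRing A] {K : Type u} [Field K] [Algebra A K] [IsFractionRing A K]

/-- scale a finite family of polynomials over the fraction field to a primitive integral one -/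
theorem exists_primitive {ι : Type*} [Fintype ι] (w : ι → K[X]) (hw : ∃ i, w i ≠ 0) :
    ∃ (c : K) (z : ι → A[X]), c ≠ 0 ∧ (∀ i, (z i).map (algebraMap A K) = C c * w i) ∧
      ∃ i, (z i).map (IsLocalRing.residue A) ≠ 0 := by
  classical
  obtain ⟨i, hi⟩ := hw
  let S : Finset (ι × ℕ) := Finset.univ.biUnion fun j => (w j).support.image fun l => (j, l)
  have hS : S.Nonempty := ⟨(i, (w i).natDegree), Finset.mem_biUnion.2 ⟨i, Finset.mem_univ _,
    Finset.mem_image.2 ⟨_, natDegree_mem_support_of_nonzero hi, rfl⟩⟩⟩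
  obtain ⟨⟨i₀, l₀⟩, hmem, hmax⟩ := S.exists_max_image (fun x => ValuationRing.valuation A K ((w x.1).coeff x.2)) hS
  have hc : (w i₀).coeff l₀ ≠ 0 := by
    obtain ⟨j, -, hj⟩ := Finset.mem_biUnion.1 hmem
    obtain ⟨l, hl, hjl⟩ := Finset.mem_image.1 hj
    cases hjl
    exact mem_support_iff.1 hl
  set c := ((w i₀).coeff l₀)⁻¹ with hcdef
  have hint : ∀ j l, ∃ a : A, algebraMap A K a = c * (w j).coeff l := by
    intro j l
    rw [← ValuationRing.mem_integer_iff, Valuation.mem_integer_iff, map_mul, hcdef, map_inv₀]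
    by_cases hl : (w j).coeff l = 0
    · rw [hl, map_zero, mul_zero]; exact zero_le'
    have h1 := hmax (j, l) (Finset.mem_biUnion.2 ⟨j, Finset.mem_univ _, Finset.mem_image.2 ⟨l, mem_support_iff.2 hl, rfl⟩⟩)
    have h2 : ValuationRing.valuation A K ((w i₀).coeff l₀) ≠ 0 := (Valuation.ne_zero_iff _).2 hc
    exact (mul_le_mul_right h1 _).trans (inv_mul_cancel₀ h2).le
  choose a ha using hint
  have hz : ∀ j, (C c * w j) ∈ Polynomial.lifts (algebraMap A K) := fun j => by
    rw [lifts_iff_coeff_lifts]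
    intro l
    exact ⟨a j l, by rw [coeff_C_mul, ha]⟩
  choose z hz' using fun j => (mem_lifts _).1 (hz j)
  refine ⟨c, z, inv_ne_zero hc, hz', i₀, fun h => ?_⟩
  have h1 := congrArg (fun q => q.coeff l₀) h
  simp only [coeff_map, coeff_zero] at h1
  have h2 : algebraMap A K ((z i₀).coeff l₀) = 1 := by
    rw [← coeff_map, hz', coeff_C_mul, hcdef, inv_mul_cancel₀ hc]
  rw [IsFractionRing.injective A K (h2.trans (map_one _).symm), map_one] at h1
  exact one_ne_zero h1

end scale

section limit

variable {p : ℕ} [Fact p.Prime] {A : Type u} [CommRing A] [IsDomain A] [ValuationRing A] [CharP A p]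
  (K : Type u) [Field K] [Algebra A K] [IsFractionRing A K] (F G : A[X])

/-- integral elements of the module generated by `F` and `G` over polynomials in `X ^ p` -/
def InMod (z : A[X]) : Prop :=
  ∃ U V : K[X], z.map (algebraMap A K) =
    F.map (algebraMap A K) * expand K p V - G.map (algebraMap A K) * expand K p U

/-- the degrees occurring in the special fibre of this module -/
def Degs : Set ℕ :=
  {m | ∃ z : A[X], InMod (p := p) K F G z ∧ z.map (IsLocalRing.residue A) ≠ 0 ∧ (z.map (IsLocalRing.residue A)).natDegree = m}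

theorem inMod_combination (a b : A) : InMod (p := p) K F G (C a * F + C b * G) :=
  ⟨C (-(algebraMap A K b)), C (algebraMap A K a), by
    simp only [Polynomial.map_add, Polynomial.map_mul, map_C, expand_C, map_neg]; ring⟩

variable (hW : wronskian (F.map (algebraMap A K)) (G.map (algebraMap A K)) ≠ 0)
include hW

theorem eq_zero_of_eq {U V : K[X]}
    (h : F.map (algebraMap A K) * expand K p V - G.map (algebraMap A K) * expand K p U = 0) : U = 0 ∧ V = 0 := by
  have : CharP K p := charP_of_injective_algebraMap (IsFractionRing.injective A K) p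
  have hp : 0 < p := (Fact.out : p.Prime).pos
  have hd : ∀ q : K[X], derivative (expand K p q) = 0 := fun q => by
    rw [derivative_expand, CharP.cast_eq_zero K[X] p, zero_mul, mul_zero]
  have h' := congrArg derivative h
  simp only [derivative_sub, derivative_mul, hd, mul_zero, add_zero, derivative_zero] at h'
  have hV : wronskian (F.map (algebraMap A K)) (G.map (algebraMap A K)) * expand K p V = 0 := by
    rw [wronskian]; linear_combination (derivative (G.map (algebraMap A K))) * h - (G.map (algebraMap A K)) * h'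
  have hU : wronskian (F.map (algebraMap A K)) (G.map (algebraMap A K)) * expand K p U = 0 := by
    rw [wronskian]; linear_combination (derivative (F.map (algebraMap A K))) * h - (F.map (algebraMap A K)) * h'
  exact ⟨(expand_eq_zero hp).1 ((mul_eq_zero.1 hU).resolve_left hW), (expand_eq_zero hp).1 ((mul_eq_zero.1 hV).resolve_left hW)⟩

variable {d : ℕ} (hF : F.natDegree ≤ d) (hG : G.natDegree ≤ d)
include hF hG

theorem card_degs_le (M : ℕ) (S : Finset ℕ) (hS : ∀ m ∈ Degs (p := p) K F G, m ≤ d + M * p → m ∈ S) :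
    2 * M + 2 ≤ S.card := by
  classical
  by_contra hlt
  push Not at hlt
  let Ψ : (Fin (M + 1) → K) × (Fin (M + 1) → K) →ₗ[K] K[X] :=
    ((LinearMap.mulLeft K (F.map (algebraMap A K))).comp ((expand K p).toLinearMap.comp
      ((degreeLT K (M + 1)).subtype.comp (degreeLTEquiv K (M + 1)).symm.toLinearMap))).comp (LinearMap.fst K _ _) -
    ((LinearMap.mulLeft K (G.map (algebraMap A K))).comp ((expand K p).toLinearMap.comp
      ((degreeLT K (M + 1)).subtype.comp (degreeLTEquiv K (M + 1)).symm.toLinearMap))).comp (LinearMap.snd K _ _)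
  let ev : K[X] →ₗ[K] (S → K) := LinearMap.pi fun s => lcoeff K s.1
  have hne : LinearMap.ker (ev.comp Ψ) ≠ ⊥ := LinearMap.ker_ne_bot_of_finrank_lt (by
    rw [Module.finrank_prod, Module.finrank_fin_fun, Module.finrank_fintype_fun_eq_card, Fintype.card_coe]
    omega)
  obtain ⟨⟨v, u⟩, hvu, hvu0⟩ := Submodule.exists_mem_ne_zero_of_ne_bot hne
  set V : K[X] := (((degreeLTEquiv K (M + 1)).symm v : degreeLT K (M + 1)) : K[X]) with hVdef
  set U : K[X] := (((degreeLTEquiv K (M + 1)).symm u : degreeLT K (M + 1)) : K[X]) with hUdef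
  have hw : Ψ (v, u) = F.map (algebraMap A K) * expand K p V - G.map (algebraMap A K) * expand K p U := rfl
  have hw0 : Ψ (v, u) ≠ 0 := fun h0 => by
    obtain ⟨hU, hV⟩ := eq_zero_of_eq K F G hW (hw ▸ h0)
    rw [hUdef, ZeroMemClass.coe_eq_zero, LinearEquiv.map_eq_zero_iff] at hU
    rw [hVdef, ZeroMemClass.coe_eq_zero, LinearEquiv.map_eq_zero_iff] at hV
    exact hvu0 (by rw [hU, hV]; rfl)
  obtain ⟨c, z, hc, hz, _, hres⟩ := exists_primitive (A := A) (fun _ : Unit => Ψ (v, u)) ⟨(), hw0⟩
  have hdegV : ∀ q : Fin (M + 1) → K, ((degreeLTEquiv K (M + 1)).symm q : K[X]).natDegree ≤ M := fun q => by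
    have := mem_degreeLT.1 ((degreeLTEquiv K (M + 1)).symm q).2
    rw [natDegree_le_iff_coeff_eq_zero]
    intro N hN
    exact coeff_eq_zero_of_degree_lt (lt_of_lt_of_le this (by exact_mod_cast hN))
  have hdeg : (Ψ (v, u)).natDegree ≤ d + M * p := by
    rw [hw]
    refine (natDegree_sub_le _ _).trans (max_le ?_ ?_) <;> refine natDegree_mul_le.trans ?_ <;> rw [natDegree_expand]
    · exact add_le_add ((natDegree_map_le).trans hF) (Nat.mul_le_mul_right p (hdegV v))
    · exact add_le_add ((natDegree_map_le).trans hG) (Nat.mul_le_mul_right p (hdegV u))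
  set m := ((z ()).map (IsLocalRing.residue A)).natDegree with hm
  have hmD : m ∈ Degs (p := p) K F G := ⟨z (), ⟨C c * U, C c * V, by
    rw [hz, hw, map_mul, map_mul, expand_C]; ring⟩, hres, rfl⟩
  have hmle : m ≤ d + M * p := by
    refine natDegree_map_le.trans ?_
    rw [← natDegree_map_eq_of_injective (IsFractionRing.injective A K) (z ()), hz, natDegree_C_mul hc]
    exact hdeg
  have h1 : (Ψ (v, u)).coeff m = 0 := congrFun hvu ⟨m, hS m hmD hmle⟩
  have h2 : (z ()).coeff m = 0 := IsFractionRing.injective A K (by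
    rw [map_zero, ← coeff_map, hz, coeff_C_mul, h1, mul_zero])
  refine leadingCoeff_ne_zero.2 hres ?_
  rw [leadingCoeff, ← hm, coeff_map, h2, map_zero]

omit hF hG in
theorem residues_of_degs {m₁ m₂ m₃ : ℕ} (h₁ : m₁ ∈ Degs (p := p) K F G) (h₂ : m₂ ∈ Degs (p := p) K F G)
    (h₃ : m₃ ∈ Degs (p := p) K F G) : m₁ % p = m₂ % p ∨ m₁ % p = m₃ % p ∨ m₂ % p = m₃ % p := by
  classical
  have hp : 0 < p := (Fact.out : p.Prime).pos
  obtain ⟨z₁, ⟨U₁, V₁, e₁⟩, n₁, rfl⟩ := h₁
  obtain ⟨z₂, ⟨U₂, V₂, e₂⟩, n₂, rfl⟩ := h₂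
  obtain ⟨z₃, ⟨U₃, V₃, e₃⟩, n₃, rfl⟩ := h₃
  obtain ⟨a, hne, hrel⟩ : ∃ a : Fin 3 → K[X], (∃ i, a i ≠ 0) ∧
      expand K p (a 0) * z₁.map (algebraMap A K) + expand K p (a 1) * z₂.map (algebraMap A K) +
        expand K p (a 2) * z₃.map (algebraMap A K) = 0 := by
    by_cases hdet : V₁ * U₂ - V₂ * U₁ = 0
    · have hd : expand K p V₁ * expand K p U₂ - expand K p V₂ * expand K p U₁ = 0 := by
        rw [← map_mul, ← map_mul, ← map_sub, hdet, map_zero]
      by_cases hU₁ : U₁ = 0
      · have hV₁ : V₁ ≠ 0 := fun h => n₁ (by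
          rw [show z₁ = 0 from map_injective _ (IsFractionRing.injective A K) (by rw [e₁, h, hU₁]; simp), Polynomial.map_zero])
        refine ⟨![V₂, -V₁, 0], ⟨1, by simpa using hV₁⟩, ?_⟩
        simp only [Matrix.cons_val_zero, Matrix.cons_val_one, Matrix.cons_val_two, Matrix.tail_cons, Matrix.head_cons,
          e₁, e₂, map_neg, map_zero, zero_mul, add_zero]
        linear_combination (G.map (algebraMap A K)) * hd
      · refine ⟨![U₂, -U₁, 0], ⟨1, by simpa using hU₁⟩, ?_⟩
        simp only [Matrix.cons_val_zero, Matrix.cons_val_one, Matrix.cons_val_two, Matrix.tail_cons, Matrix.head_cons,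
          e₁, e₂, map_neg, map_zero, zero_mul, add_zero]
        linear_combination (F.map (algebraMap A K)) * hd
    · refine ⟨![V₂ * U₃ - V₃ * U₂, V₃ * U₁ - V₁ * U₃, V₁ * U₂ - V₂ * U₁], ⟨2, by simpa using hdet⟩, ?_⟩
      simp only [Matrix.cons_val_zero, Matrix.cons_val_one, Matrix.cons_val_two, Matrix.tail_cons, Matrix.head_cons,
        e₁, e₂, e₃, map_sub, map_mul]
      ring
  obtain ⟨c, b, hc, hb, i₀, hi₀⟩ := exists_primitive (A := A) a hne
  set k := IsLocalRing.ResidueField A
  set π := IsLocalRing.residue A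
  have hex : ∀ q : A[X], (expand A p q).map (algebraMap A K) = expand K p (q.map (algebraMap A K)) := fun q =>
    map_expand
  have hA : expand A p (b 0) * z₁ + expand A p (b 1) * z₂ + expand A p (b 2) * z₃ = 0 := by
    apply map_injective _ (IsFractionRing.injective A K)
    simp only [Polynomial.map_add, Polynomial.map_mul, hex, hb, map_mul, expand_C, Polynomial.map_zero]
    linear_combination (C c) * hrel
  have hk := congrArg (fun q => q.map π) hA
  simp only [Polynomial.map_add, Polynomial.map_mul, map_expand, Polynomial.map_zero] at hk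
  let T : Fin 3 → k[X] := ![expand k p ((b 0).map π) * z₁.map π, expand k p ((b 1).map π) * z₂.map π,
    expand k p ((b 2).map π) * z₃.map π]
  let r : Fin 3 → ℕ := ![(z₁.map π).natDegree % p, (z₂.map π).natDegree % p, (z₃.map π).natDegree % p]
  have hsum : ∑ i, T i = 0 := by rw [Fin.sum_univ_three]; exact hk
  have hT : ∀ i, T i ≠ 0 → (T i).natDegree % p = r i := by
    intro i hi
    fin_cases i <;> obtain ⟨h1, h2⟩ := mul_ne_zero_iff.1 hi <;>
      simp [T, r, natDegree_mul h1 h2, natDegree_expand, Nat.add_mod]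
  have hT0 : T i₀ ≠ 0 := by
    have : ∀ (q : A[X]) (w : k[X]), q.map π ≠ 0 → w ≠ 0 → expand k p (q.map π) * w ≠ 0 := fun q w hq hw =>
      mul_ne_zero ((expand_ne_zero hp).2 hq) hw
    fin_cases i₀
    · exact this _ _ hi₀ n₁
    · exact this _ _ hi₀ n₂
    · exact this _ _ hi₀ n₃
  obtain ⟨i, hi, hmax⟩ := (Finset.univ.filter fun j => T j ≠ 0).exists_max_image (fun j => (T j).natDegree)
    ⟨i₀, Finset.mem_filter.2 ⟨Finset.mem_univ _, hT0⟩⟩
  have hi' := (Finset.mem_filter.1 hi).2
  obtain ⟨j, hji, hj⟩ : ∃ j, j ≠ i ∧ T j ≠ 0 ∧ (T j).natDegree = (T i).natDegree := by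
    by_contra hall
    push Not at hall
    have := congrArg (fun q => q.coeff (T i).natDegree) hsum
    simp only [finsetSum_coeff, coeff_zero] at this
    rw [Finset.sum_eq_single i (fun j _ hji => ?_) (by simp)] at this
    · exact leadingCoeff_ne_zero.2 hi' this
    · by_cases hj0 : T j = 0
      · rw [hj0, coeff_zero]
      · exact coeff_eq_zero_of_natDegree_lt (lt_of_le_of_ne (hmax j (Finset.mem_filter.2 ⟨Finset.mem_univ _, hj0⟩))
          (hall j hji hj0))
  have hrr : r j = r i := by rw [← hT i hi', ← hT j hj.1, hj.2]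
  fin_cases i <;> fin_cases j <;> first | exact absurd rfl hji | (simp [r] at hrr; simp [hrr])

/-- two least degrees, one in each residue class -/
theorem exists_min_pair : ∃ n₁ n₂, n₁ ∈ Degs (p := p) K F G ∧ n₂ ∈ Degs (p := p) K F G ∧ n₂ < n₁ ∧ n₁ % p ≠ n₂ % p ∧
    ∀ m ∈ Degs (p := p) K F G, (m % p = n₁ % p ∧ n₁ ≤ m) ∨ (m % p = n₂ % p ∧ n₂ ≤ m) := by
  classical
  have hp : 0 < p := (Fact.out : p.Prime).pos
  obtain ⟨a, ha, b, hb, hab⟩ : ∃ a ∈ Degs (p := p) K F G, ∃ b ∈ Degs (p := p) K F G, a % p ≠ b % p := by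
    by_contra hall
    push Not at hall
    by_cases hne : ∃ a, a ∈ Degs (p := p) K F G
    · obtain ⟨a, ha⟩ := hne
      have := card_degs_le K F G hW hF hG d ((Finset.range (d + d / p + 1)).image fun j => a % p + j * p) fun m hm hmd => by
        refine Finset.mem_image.2 ⟨m / p, Finset.mem_range.2 ?_, by rw [hall a ha m hm, Nat.mod_add_div']⟩
        have := Nat.div_le_div_right (c := p) hmd
        rw [Nat.add_mul_div_right _ _ hp] at this
        omega
      have := this.trans Finset.card_image_le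
      rw [Finset.card_range] at this
      have := Nat.div_le_self d p
      omega
    · have := card_degs_le K F G hW hF hG 0 ∅ fun m hm => (hne ⟨m, hm⟩).elim
      simp at this
  have hn : ∀ a ∈ Degs (p := p) K F G, ∃ n, n ∈ Degs (p := p) K F G ∧ n % p = a % p ∧
      ∀ m ∈ Degs (p := p) K F G, m % p = a % p → n ≤ m := fun a ha => by
    have hex : ∃ n, n ∈ Degs (p := p) K F G ∧ n % p = a % p := ⟨a, ha, rfl⟩
    exact ⟨Nat.find hex, (Nat.find_spec hex).1, (Nat.find_spec hex).2, fun m hm hma => Nat.find_min' hex ⟨hm, hma⟩⟩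
  obtain ⟨na, hna, hnam, hnamin⟩ := hn a ha
  obtain ⟨nb, hnb, hnbm, hnbmin⟩ := hn b hb
  have hall : ∀ m ∈ Degs (p := p) K F G, (m % p = na % p ∧ na ≤ m) ∨ (m % p = nb % p ∧ nb ≤ m) := fun m hm => by
    rcases residues_of_degs K F G hW ha hb hm with h | h | h
    · exact absurd h hab
    · exact Or.inl ⟨by rw [hnam]; exact h.symm, hnamin m hm h.symm⟩
    · exact Or.inr ⟨by rw [hnbm]; exact h.symm, hnbmin m hm h.symm⟩
  rcases lt_trichotomy nb na with h | h | h
  · exact ⟨na, nb, hna, hnb, h, by rw [hnam, hnbm]; exact hab, hall⟩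
  · exact absurd (by rw [← hnam, ← hnbm, h] : a % p = b % p) hab
  · exact ⟨nb, na, hnb, hna, h, by rw [hnam, hnbm]; exact hab.symm, fun m hm => (hall m hm).symm⟩

omit hW hF hG in
/-- members of the special fibre with high contact -/
theorem exists_member_special {z₁ z₂ : A[X]} (h₁ : InMod (p := p) K F G z₁) (h₂ : InMod (p := p) K F G z₂) (P : A) {e : ℕ}
    (he : e ≤ p) {s : K[X]} (hs : s ∈ Submodule.span K {F.map (algebraMap A K), G.map (algebraMap A K)}) (hs0 : s ≠ 0)
    (hd : (X - C (algebraMap A K P)) ^ e ∣ s) :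
    ∃ α β : IsLocalRing.ResidueField A, (α ≠ 0 ∨ β ≠ 0) ∧ (X - C (IsLocalRing.residue A P)) ^ e ∣
      C α * z₁.map (IsLocalRing.residue A) + C β * z₂.map (IsLocalRing.residue A) := by
  classical
  have : CharP K p := charP_of_injective_algebraMap (IsFractionRing.injective A K) p
  obtain ⟨U₁, V₁, e₁⟩ := h₁
  obtain ⟨U₂, V₂, e₂⟩ := h₂
  obtain ⟨α, β, rfl⟩ := Submodule.mem_span_pair.1 hs
  set a := algebraMap A K P
  have hαβ : α ≠ 0 ∨ β ≠ 0 := by
    by_contra h
    push Not at h
    exact hs0 (by simp [h.1, h.2])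
  obtain ⟨v, hv0, hv⟩ : ∃ v : Fin 2 → K[X], (∃ i, v i ≠ 0) ∧ ∃ l m : K, v 0 = C l ∧ v 1 = C m ∧
      (X - C a) ^ e ∣ C l * z₁.map (algebraMap A K) + C m * z₂.map (algebraMap A K) := by
    have hex : ∀ U V : K[X], (X - C a) ^ e ∣ (F.map (algebraMap A K) * expand K p V - G.map (algebraMap A K) * expand K p U) -
        (C (V.eval (a ^ p)) * F.map (algebraMap A K) - C (U.eval (a ^ p)) * G.map (algebraMap A K)) := by
      intro U V
      convert dvd_sub ((expand_dvd_sub_eval a he V).mul_left (F.map (algebraMap A K)))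
        ((expand_dvd_sub_eval a he U).mul_left (G.map (algebraMap A K))) using 1
      ring
    set c₁ := V₁.eval (a ^ p) * β + U₁.eval (a ^ p) * α
    set c₂ := V₂.eval (a ^ p) * β + U₂.eval (a ^ p) * α
    obtain ⟨l, m, hlm, hlm0⟩ : ∃ l m : K, l * c₁ + m * c₂ = 0 ∧ (l ≠ 0 ∨ m ≠ 0) := by
      by_cases hc : c₁ = 0
      · exact ⟨1, 0, by rw [hc]; ring, Or.inl one_ne_zero⟩
      · exact ⟨c₂, -c₁, by ring, Or.inr (neg_ne_zero.2 hc)⟩
    refine ⟨![C l, C m], by rcases hlm0 with h | h; exacts [⟨0, by simpa using h⟩, ⟨1, by simpa using h⟩], l, m, rfl, rfl, ?_⟩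
    set fa := l * V₁.eval (a ^ p) + m * V₂.eval (a ^ p) with hfa
    set gb := l * U₁.eval (a ^ p) + m * U₂.eval (a ^ p) with hgb
    have hrel : C fa * C β + C gb * C α = 0 := by
      rw [← map_mul, ← map_mul, ← map_add, show fa * β + gb * α = l * c₁ + m * c₂ by
        simp only [fa, gb, c₁, c₂]; ring, hlm, map_zero]
    have hline : (X - C a) ^ e ∣ C fa * F.map (algebraMap A K) - C gb * G.map (algebraMap A K) := by
      by_cases hα : α = 0
      · refine (IsUnit.dvd_mul_left (isUnit_C.2 (hαβ.resolve_left (not_not.2 hα)).isUnit)).1 (hd.trans ⟨-C gb, ?_⟩)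
        simp only [smul_eq_C_mul]
        linear_combination (F.map (algebraMap A K)) * hrel
      · refine (IsUnit.dvd_mul_left (isUnit_C.2 (Ne.isUnit hα))).1 (hd.trans ⟨C fa, ?_⟩)
        simp only [smul_eq_C_mul]
        linear_combination (-(G.map (algebraMap A K))) * hrel
    rw [e₁, e₂]
    convert dvd_add (dvd_add ((hex U₁ V₁).mul_left (C l)) ((hex U₂ V₂).mul_left (C m))) hline using 1
    simp only [hfa, hgb, map_add, map_mul]
    ring
  obtain ⟨c, z, hc, hz, i₀, hi₀⟩ := exists_primitive (A := A) v hv0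
  obtain ⟨l, m, hl, hm, hdv⟩ := hv
  have hdeg : ∀ i, z i = C ((z i).coeff 0) := fun i => by
    apply eq_C_of_natDegree_eq_zero
    rw [← natDegree_map_eq_of_injective (IsFractionRing.injective A K) (z i), hz]
    fin_cases i
    · show (C c * v 0).natDegree = 0
      rw [hl, ← map_mul, natDegree_C]
    · show (C c * v 1).natDegree = 0
      rw [hm, ← map_mul, natDegree_C]
  refine ⟨IsLocalRing.residue A ((z 0).coeff 0), IsLocalRing.residue A ((z 1).coeff 0), ?_, ?_⟩
  · rw [hdeg i₀, map_C, C_ne_zero] at hi₀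
    fin_cases i₀
    · exact Or.inl hi₀
    · exact Or.inr hi₀
  · have hA : (X - C P) ^ e ∣ z 0 * z₁ + z 1 * z₂ := by
      refine map_dvd_map (algebraMap A K) (IsFractionRing.injective A K) ((monic_X_sub_C P).pow e) |>.1 ?_
      simp only [Polynomial.map_pow, Polynomial.map_sub, map_X, map_C, Polynomial.map_add, Polynomial.map_mul, hz, hl, hm]
      rw [show C c * C l * z₁.map (algebraMap A K) + C c * C m * z₂.map (algebraMap A K) =
        C c * (C l * z₁.map (algebraMap A K) + C m * z₂.map (algebraMap A K)) by ring]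
      exact hdv.mul_left _
    have := Polynomial.map_dvd (IsLocalRing.residue A) hA
    rw [hdeg 0, hdeg 1] at this
    simpa only [Polynomial.map_pow, Polynomial.map_sub, map_X, map_C, Polynomial.map_add, Polynomial.map_mul] using this

theorem special_pencil {n : ℕ} {e : Fin n → ℕ} (he : Admissible p d e) (hlt : ∀ i, e i < p) (P : Fin n → A)
    (hgen : Submodule.span K {F.map (algebraMap A K), G.map (algebraMap A K)} ∈
      ramMaps d (fun i => algebraMap A K (P i)) e)
    (hind : LinearIndependent (IsLocalRing.ResidueField A)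
      ![F.map (IsLocalRing.residue A), G.map (IsLocalRing.residue A)])
    (hinsep : wronskian (F.map (IsLocalRing.residue A)) (G.map (IsLocalRing.residue A)) = 0)
    (hdist : Function.Injective fun i => IsLocalRing.residue A (P i)) :
    ∃ m ε : ℕ, 1 ≤ m ∧ m * p ≤ d ∧ ε ≤ 1 ∧
      ∃ V ∈ ramMaps (d + m * p - 1 + ε) (fun i => IsLocalRing.residue A (P i)) e,
        HasRamIdxInf (d + m * p - 1 + ε) V (2 * m * p - 1 + 2 * ε) := by
  classical
  set k := IsLocalRing.ResidueField A
  set π := IsLocalRing.residue A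
  have hpp : p.Prime := Fact.out
  have hp2 := hpp.two_le
  have hCk : CharP k p := (CharP.charP_iff_prime_eq_zero hpp).2 (by
    rw [← map_natCast π, CharP.cast_eq_zero, map_zero])
  have hsum := sum_sub_one he
  obtain ⟨n₁, n₂, hn₁, hn₂, hlt', hmod, hall⟩ := exists_min_pair K F G hW hF hG
  obtain ⟨z₁, hz₁, hN0, hN⟩ := id hn₁
  obtain ⟨z₂, hz₂, hh0, hh⟩ := id hn₂
  set N := z₁.map π
  set h := z₂.map π
  have hW' : wronskian N h ≠ 0 := wronskian_ne_zero_of_mod hN0 hh0 (by rw [hN, hh]; exact hmod)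
  have hli : ∀ α β : k, (α ≠ 0 ∨ β ≠ 0) → C α * N + C β * h ≠ 0 := by
    intro α β hne h0
    have h0' : α • N + β • h = 0 := by rw [smul_eq_C_mul, smul_eq_C_mul]; exact h0
    have hfr := congrArg (fun q => wronskian q h) h0'
    simp only [wronskian, smul_eq_C_mul, derivative_add, derivative_C_mul, derivative_zero, zero_mul, sub_zero] at hfr
    have h1 : C α * wronskian N h = 0 := by rw [wronskian]; linear_combination hfr
    have hα : α = 0 := C_eq_zero.1 ((mul_eq_zero.1 h1).resolve_right hW')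
    rw [hα, map_zero, zero_mul, zero_add, mul_eq_zero, C_eq_zero] at h0
    exact (hne.resolve_left (not_not.2 hα)) (h0.resolve_right hh0)
  have hmem : ∀ i, ∃ s ∈ Submodule.span k {N, h}, s ≠ 0 ∧ (X - C (π (P i))) ^ e i ∣ s := fun i => by
    obtain ⟨s, hs, hs0, hes⟩ := exists_of_mem hgen i
    obtain ⟨α, β, hne, hd⟩ := exists_member_special K F G hz₁ hz₂ (P i) (hlt i).le hs hs0 (pow_dvd_of_le hes)
    exact ⟨C α * N + C β * h, Submodule.mem_span_pair.2 ⟨α, β, by rw [smul_eq_C_mul, smul_eq_C_mul]⟩, hli α β hne, hd⟩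
  have hrk := finrank_span_pair_of_wronskian hW'
  obtain ⟨c, hc⟩ := ramPoly_dvd_wronskian (fun i => π (P i)) hdist e hrk rfl fun i => by
    obtain ⟨s, hs, hs0, hd⟩ := hmem i
    exact ⟨s, hs, hs0, le_of_pow_dvd hs0 hd⟩
  have hc0 : c ≠ 0 := fun h => hW' (by rw [hc, h, mul_zero])
  have hWdeg : (wronskian N h).natDegree = 2 * d - 2 + c.natDegree := by
    rw [hc, natDegree_mul (ramPoly_ne_zero _ e) hc0, natDegree_ramPoly]; omega
  have hWlt := natDegree_wronskian_lt_add hW'
  rw [hN, hh, hWdeg] at hWlt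
  have hsub : ∀ n₀ m : ℕ, m % p = n₀ % p → n₀ ≤ m → m ≤ d + (n₁ + n₂) * p →
      m ∈ (Finset.range ((d + (n₁ + n₂) * p + p - n₀) / p)).image fun j => n₀ + j * p := by
    intro n₀ m h1 h2 h3
    have hmm := Nat.div_add_mod' (m - n₀) p
    rw [Nat.sub_mod_eq_zero_of_mod_eq h1, add_zero] at hmm
    refine Finset.mem_image.2 ⟨(m - n₀) / p, Finset.mem_range.2 ?_, by omega⟩
    rw [Nat.lt_iff_add_one_le, Nat.le_div_iff_mul_le hpp.pos, add_mul, one_mul]
    omega
  have hcount := (card_degs_le K F G hW hF hG (n₁ + n₂) _ fun m hm hmd => (hall m hm).elim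
    (fun h => Finset.mem_union_left _ (hsub n₁ m h.1 h.2 hmd))
    (fun h => Finset.mem_union_right _ (hsub n₂ m h.1 h.2 hmd))).trans (Finset.card_union_le _ _)
  have hcount' := hcount.trans (add_le_add Finset.card_image_le Finset.card_image_le)
  rw [Finset.card_range, Finset.card_range] at hcount'
  obtain ⟨m, ε, hε, hn₁', hn₂', hc0'⟩ : ∃ m ε : ℕ, ε ≤ 1 ∧ n₁ + 1 = d + m * p + ε ∧ n₂ + m * p + ε = d ∧ c.natDegree = 0 := by
    have hle : ∀ n₀, n₀ ≤ n₁ + n₂ → n₀ ≤ d + (n₁ + n₂) * p + p := fun n₀ h => by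
      have := Nat.le_mul_of_pos_right (n₁ + n₂) hpp.pos
      omega
    have e1 := Nat.div_add_mod' (d + (n₁ + n₂) * p + p - n₁) p
    have e2 := Nat.div_add_mod' (d + (n₁ + n₂) * p + p - n₂) p
    have l1 := Nat.mod_lt (d + (n₁ + n₂) * p + p - n₁) hpp.pos
    have l2 := Nat.mod_lt (d + (n₁ + n₂) * p + p - n₂) hpp.pos
    have hle1 := hle n₁ (by omega)
    have hle2 := hle n₂ (by omega)
    set c₁ := (d + (n₁ + n₂) * p + p - n₁) / p
    set c₂ := (d + (n₁ + n₂) * p + p - n₂) / p
    set r₁ := (d + (n₁ + n₂) * p + p - n₁) % p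
    set r₂ := (d + (n₁ + n₂) * p + p - n₂) % p
    have hM : (2 * (n₁ + n₂) + 2) * p = 2 * ((n₁ + n₂) * p) + 2 * p := by ring
    have hsum' : c₁ + c₂ = 2 * (n₁ + n₂) + 2 := by
      by_contra hne
      have h3 := Nat.mul_le_mul_right p (show 2 * (n₁ + n₂) + 3 ≤ c₁ + c₂ by omega)
      rw [show (2 * (n₁ + n₂) + 3) * p = 2 * ((n₁ + n₂) * p) + 3 * p by ring, add_mul c₁] at h3
      omega
    have h4 : c₁ * p + c₂ * p = 2 * ((n₁ + n₂) * p) + 2 * p := by rw [← add_mul, hsum', hM]
    have hr : r₁ + r₂ = 1 := by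
      by_contra hne
      refine hmod ?_
      have h1 : n₁ + c₁ * p = d + (n₁ + n₂ + 1) * p := by rw [add_mul, one_mul]; omega
      have h2 : n₂ + c₂ * p = d + (n₁ + n₂ + 1) * p := by rw [add_mul, one_mul]; omega
      rw [← Nat.add_mul_mod_self_right n₁ c₁ p, h1, ← h2, Nat.add_mul_mod_self_right]
    have hc₂ : n₁ + n₂ + 1 ≤ c₂ := by
      by_contra hlt2
      have h5 := Nat.mul_le_mul_right p (show c₂ + 1 ≤ n₁ + n₂ + 1 by omega)
      rw [show (n₁ + n₂ + 1) * p = (n₁ + n₂) * p + p by ring, add_mul c₂, one_mul] at h5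
      omega
    obtain ⟨m, hm⟩ := Nat.le.dest hc₂
    have h6 : c₂ * p = (n₁ + n₂) * p + p + m * p := by rw [← hm]; ring
    exact ⟨m, r₂, by omega, by omega, by omega, by omega⟩
  obtain ⟨γ, rfl⟩ : ∃ γ, c = C γ := ⟨_, eq_C_of_natDegree_eq_zero hc0'⟩
  have hm1 : 1 ≤ m := by
    by_contra hm0
    obtain rfl : m = 0 := by omega
    rw [zero_mul] at hn₁' hn₂'
    have hεe : ε = 1 := by
      rcases Nat.le_one_iff_eq_zero_or_eq_one.1 hε with h | h
      · omega
      · exact h
    have hd₁ : n₁ = d := by omega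
    have hd₂ : n₂ + 1 = d := by omega
    -- every combination of the reductions has degree `d` or `d - 1`
    have hdg : ∀ α β : k, α • F.map π + β • G.map π ≠ 0 →
        (α • F.map π + β • G.map π).natDegree = d ∨ (α • F.map π + β • G.map π).natDegree = n₂ := by
      intro α β hne
      obtain ⟨a, rfl⟩ := IsLocalRing.residue_surjective α
      obtain ⟨b, rfl⟩ := IsLocalRing.residue_surjective β
      have heq : π a • F.map π + π b • G.map π = (C a * F + C b * G).map π := by
        simp only [Polynomial.map_add, Polynomial.map_mul, map_C, smul_eq_C_mul]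
      have hle : (π a • F.map π + π b • G.map π).natDegree ≤ d :=
        natDegree_add_le_of_degree_le ((natDegree_smul_le _ _).trans (natDegree_map_le.trans hF))
          ((natDegree_smul_le _ _).trans (natDegree_map_le.trans hG))
      rw [heq] at hne hle ⊢
      rcases hall (Polynomial.map π (C a * F + C b * G)).natDegree ⟨_, inMod_combination K F G a b, hne, rfl⟩ with
        ⟨-, h2⟩ | ⟨h1, h2⟩
      · left; omega
      · right
        by_contra hne2
        have : (Polynomial.map π (C a * F + C b * G)).natDegree = n₁ := by omega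
        exact hmod (this ▸ h1)
    let T : (Fin 2 → k) →ₗ[k] (Fin 2 → k) := LinearMap.pi fun j =>
      ((lcoeff k (![d, n₂] j)).comp (Fintype.linearCombination k ![F.map π, G.map π]))
    have hTinj : Function.Injective T := by
      rw [← LinearMap.ker_eq_bot, Submodule.eq_bot_iff]
      intro v hv
      have hsplit : Fintype.linearCombination k ![F.map π, G.map π] v = v 0 • F.map π + v 1 • G.map π := by
        simp [Fintype.linearCombination_apply, Fin.sum_univ_two]
      by_contra hv0
      have hne : v 0 • F.map π + v 1 • G.map π ≠ 0 := fun h0 => hv0 (by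
        have := LinearIndependent.pair_iff.1 hind (v 0) (v 1) h0
        funext j
        fin_cases j
        · exact this.1
        · exact this.2)
      have hj0 := congrFun hv 0
      have hj1 := congrFun hv 1
      simp only [T, LinearMap.pi_apply, LinearMap.comp_apply, hsplit, lcoeff_apply, Pi.zero_apply, Matrix.cons_val_zero,
        Matrix.cons_val_one] at hj0 hj1
      refine leadingCoeff_ne_zero.2 hne ?_
      rcases hdg (v 0) (v 1) hne with h | h <;> rw [leadingCoeff, h] <;> assumption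
    have hTsurj : Function.Surjective T := LinearMap.injective_iff_surjective.1 hTinj
    obtain ⟨v, hv⟩ := hTsurj ![1, 0]
    obtain ⟨w, hw⟩ := hTsurj ![0, 1]
    have hsplit : ∀ v, Fintype.linearCombination k ![F.map π, G.map π] v = v 0 • F.map π + v 1 • G.map π := fun v => by
      simp [Fintype.linearCombination_apply, Fin.sum_univ_two]
    have hv0 := congrFun hv 0
    have hw0 := congrFun hw 0
    have hw1 := congrFun hw 1
    simp only [T, LinearMap.pi_apply, LinearMap.comp_apply, hsplit, lcoeff_apply, Matrix.cons_val_zero, Matrix.cons_val_one]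
      at hv0 hw0 hw1
    set s := v 0 • F.map π + v 1 • G.map π with hs
    set t := w 0 • F.map π + w 1 • G.map π with ht
    have hs0 : s ≠ 0 := fun h => by rw [h, coeff_zero] at hv0; exact zero_ne_one hv0
    have ht0 : t ≠ 0 := fun h => by rw [h, coeff_zero] at hw1; exact zero_ne_one hw1
    have hsd : s.natDegree = d := (hdg _ _ hs0).resolve_right fun h => by
      have h' : s.natDegree = n₂ := h
      rw [coeff_eq_zero_of_natDegree_lt (by omega)] at hv0
      exact zero_ne_one hv0
    have htd : t.natDegree = n₂ := (hdg _ _ ht0).resolve_left fun h => by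
      exact leadingCoeff_ne_zero.2 ht0 (by rw [leadingCoeff, h]; exact hw0)
    obtain ⟨a, ha⟩ := exists_smul_wronskian (F := F.map π) (G := G.map π) (s := s) (t := t)
      (Submodule.mem_span_pair.2 ⟨_, _, hs.symm⟩) (Submodule.mem_span_pair.2 ⟨_, _, ht.symm⟩)
    refine wronskian_ne_zero_of_mod hs0 ht0 ?_ (by rw [ha, hinsep, mul_zero])
    rw [hsd, htd, ← hd₁]
    exact hmod
  have hγ : γ ≠ 0 := fun h => hc0 (by rw [h, map_zero])
  obtain ⟨hbpf, hram⟩ := bpf_and_ram hdist (fun i => le_trans one_le_two (he.1 i).1) hγ (hc.trans (mul_comm _ _)) hmem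
  have hD : d + m * p - 1 + ε = n₁ := by
    have := Nat.mul_pos (show 0 < m by omega) hpp.pos
    omega
  have hmp : 2 * (m * p) = 2 * m * p := by ring
  refine ⟨m, ε, hm1, by omega, hε, Submodule.span k {N, h}, ⟨⟨?_, hrk, ?_, hbpf⟩, isSeparable_iff.2 hW', hram⟩, ?_, ?_⟩
  · rw [hD]
    refine Submodule.span_le.2 ?_
    rintro x (rfl | rfl)
    · exact mem_degreeLE_of hN.le
    · exact mem_degreeLE_of (by omega)
  · exact ⟨N, Submodule.subset_span (by simp), by rw [hD, hN]⟩
  · refine ⟨h, Submodule.subset_span (by simp), hh0, ?_⟩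
    have := Nat.mul_pos (show 0 < m by omega) hpp.pos
    omega
  · intro s hs hs0
    obtain ⟨α, β, rfl⟩ := Submodule.mem_span_pair.1 hs
    have := Nat.mul_pos (show 0 < m by omega) hpp.pos
    by_cases hα : α = 0
    · have hβ : β ≠ 0 := fun h => hs0 (by simp [hα, h])
      rw [hα, zero_smul, zero_add, natDegree_smul _ hβ, hh]
      omega
    · rw [natDegree_add_eq_left_of_natDegree_lt (by
        rw [natDegree_smul _ hα, hN]
        exact lt_of_le_of_lt (natDegree_smul_le _ _) (hh ▸ hlt')), natDegree_smul _ hα, hN]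
      omega

end limit

end Groth.L13.RamP1
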