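import Groth.Agent.L13.RamP1.Basic
import Mathlib.FieldTheory.IsAlgClosed.Basic
import Mathlib.RingTheory.Polynomial.Basic

/-! Pencils with three prescribed ramification points. -/

set_option autoImplicit false
set_option linter.unusedSectionVars false

universe u

namespace Groth.L13.RamP1

open Polynomial W4c1limliniiii

variable {k : Type u} [Field k] {p d : ℕ} {P : Fin 3 → k} {e : Fin 3 → ℕ}

theorem eq_zero_of_dvd_two (hP : Function.Injective P) (he : Admissible p d e) {s : k[X]} (hs : s.natDegree ≤ d)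
    {i j : Fin 3} (hij : i ≠ j) (hi : (X - C (P i)) ^ e i ∣ s) (hj : (X - C (P j)) ^ e j ∣ s) : s = 0 := by
  by_contra hs0
  have hc : IsCoprime ((X - C (P i)) ^ e i) ((X - C (P j)) ^ e j) :=
    (isCoprime_X_sub_C_of_isUnit_sub ((sub_ne_zero.2 fun h => hij (hP h)).isUnit)).pow
  have h := natDegree_le_of_dvd (hc.mul_dvd hi hj) hs0
  rw [natDegree_mul (pow_ne_zero _ (X_sub_C_ne_zero _)) (pow_ne_zero _ (X_sub_C_ne_zero _)),
    natDegree_pow, natDegree_pow, natDegree_X_sub_C, natDegree_X_sub_C] at h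
  have h2 := he.2
  rw [Fin.sum_univ_three] at h2
  have := (he.1 0).2.1
  have := (he.1 1).2.1
  have := (he.1 2).2.1
  fin_cases i <;> fin_cases j <;> simp_all <;> omega

/-- the pairs `(F, G)` with `F`, `G`, `F + G` vanishing to the prescribed orders -/
noncomputable def pairs (d : ℕ) (P : Fin 3 → k) (e : Fin 3 → ℕ) : Submodule k (k[X] × k[X]) :=
  ((degreeLE k (d : WithBot ℕ)).prod (degreeLE k (d : WithBot ℕ))) ⊓
    (((Ideal.span {(X - C (P 0)) ^ e 0}).restrictScalars k).prod ((Ideal.span {(X - C (P 1)) ^ e 1}).restrictScalars k)) ⊓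
    Submodule.comap (LinearMap.fst k k[X] k[X] + LinearMap.snd k k[X] k[X])
      ((Ideal.span {(X - C (P 2)) ^ e 2}).restrictScalars k)

theorem mem_pairs {v : k[X] × k[X]} : v ∈ pairs d P e ↔
    ((v.1.natDegree ≤ d ∧ v.2.natDegree ≤ d) ∧ (X - C (P 0)) ^ e 0 ∣ v.1 ∧ (X - C (P 1)) ^ e 1 ∣ v.2) ∧
      (X - C (P 2)) ^ e 2 ∣ v.1 + v.2 := by
  simp only [pairs, Submodule.mem_inf, Submodule.mem_prod, Submodule.mem_comap, Submodule.restrictScalars_mem,
    Ideal.mem_span_singleton, LinearMap.add_apply, LinearMap.fst_apply, LinearMap.snd_apply, mem_degreeLE,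
    ← natDegree_le_iff_degree_le]

variable (hP : Function.Injective P) (he : Admissible p d e)

include hP he

theorem ne_zero_of_mem {v : k[X] × k[X]} (hv : v ∈ pairs d P e) (hv0 : v ≠ 0) :
    v.1 ≠ 0 ∧ v.2 ≠ 0 ∧ v.1 + v.2 ≠ 0 := by
  obtain ⟨⟨⟨h1, h2⟩, h3, h4⟩, h5⟩ := mem_pairs.1 hv
  refine ⟨fun h => hv0 (Prod.ext h ?_), fun h => hv0 (Prod.ext ?_ h), fun h => hv0 ?_⟩
  · rw [h, zero_add] at h5
    exact eq_zero_of_dvd_two hP he h2 (show (1 : Fin 3) ≠ 2 by decide) h4 h5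
  · rw [h, add_zero] at h5
    exact eq_zero_of_dvd_two hP he h1 (show (0 : Fin 3) ≠ 2 by decide) h3 h5
  · have h6 : v.1 = -v.2 := eq_neg_of_add_eq_zero_left h
    rw [h6, dvd_neg] at h3
    have := eq_zero_of_dvd_two hP he h2 (show (0 : Fin 3) ≠ 1 by decide) h3 h4
    exact Prod.ext (by rw [h6, this, neg_zero]; rfl) this

theorem pairs_ne_bot : pairs d P e ≠ ⊥ := by
  classical
  have h2 := he.2
  rw [Fin.sum_univ_three] at h2
  have := (he.1 0).2.1
  have := (he.1 1).2.1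
  let A := degreeLT k (d + 1 - e 0)
  let B := degreeLT k (d + 1 - e 1)
  have hm : ((X - C (P 2)) ^ e 2).Monic := (monic_X_sub_C _).pow _
  let Φ : A × B →ₗ[k] k[X] :=
    (LinearMap.mulLeft k ((X - C (P 0)) ^ e 0)).comp (A.subtype.comp (LinearMap.fst k A B)) +
      (LinearMap.mulLeft k ((X - C (P 1)) ^ e 1)).comp (B.subtype.comp (LinearMap.snd k A B))
  let Ψ : A × B →ₗ[k] degreeLT k (e 2) :=
    ((Polynomial.modByMonicHom ((X - C (P 2)) ^ e 2)).comp Φ).codRestrict _ fun v => by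
      rw [mem_degreeLT]
      refine lt_of_lt_of_le (degree_modByMonic_lt _ hm) ?_
      rw [degree_pow, degree_X_sub_C, nsmul_one]
  have : FiniteDimensional k A := Module.Finite.equiv (degreeLTEquiv k _).symm
  have : FiniteDimensional k B := Module.Finite.equiv (degreeLTEquiv k _).symm
  have : FiniteDimensional k (degreeLT k (e 2)) := Module.Finite.equiv (degreeLTEquiv k _).symm
  have hker : LinearMap.ker Ψ ≠ ⊥ := LinearMap.ker_ne_bot_of_finrank_lt (by
    rw [Module.finrank_prod, (degreeLTEquiv k _).finrank_eq, (degreeLTEquiv k _).finrank_eq, (degreeLTEquiv k _).finrank_eq]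
    simp only [Module.finrank_fin_fun]
    omega)
  obtain ⟨⟨⟨a, ha⟩, ⟨b, hb⟩⟩, hv, hv0⟩ := (Submodule.ne_bot_iff _).1 hker
  rw [Submodule.ne_bot_iff]
  refine ⟨((X - C (P 0)) ^ e 0 * a, (X - C (P 1)) ^ e 1 * b), mem_pairs.2 ⟨⟨⟨?_, ?_⟩, dvd_mul_right _ _, dvd_mul_right _ _⟩, ?_⟩, ?_⟩
  · by_cases ha0 : a = 0
    · simp [ha0]
    · have := (natDegree_lt_iff_degree_lt ha0).2 (mem_degreeLT.1 ha)
      rw [natDegree_mul (pow_ne_zero _ (X_sub_C_ne_zero _)) ha0, natDegree_pow, natDegree_X_sub_C]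
      omega
  · by_cases hb0 : b = 0
    · simp [hb0]
    · have := (natDegree_lt_iff_degree_lt hb0).2 (mem_degreeLT.1 hb)
      rw [natDegree_mul (pow_ne_zero _ (X_sub_C_ne_zero _)) hb0, natDegree_pow, natDegree_X_sub_C]
      omega
  · have := congrArg Subtype.val hv
    exact (modByMonic_eq_zero_iff_dvd hm).1 this
  · intro h
    obtain ⟨h1, h2⟩ := Prod.mk_eq_zero.1 h
    refine hv0 (Prod.ext (Subtype.ext ?_) (Subtype.ext ?_))
    · exact (mul_eq_zero.1 h1).resolve_left (pow_ne_zero _ (X_sub_C_ne_zero _))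
    · exact (mul_eq_zero.1 h2).resolve_left (pow_ne_zero _ (X_sub_C_ne_zero _))

theorem span_props {v : k[X] × k[X]} (hv : v ∈ pairs d P e) (hv0 : v ≠ 0) :
    Submodule.span k {v.1, v.2} ≤ degreeLE k (d : WithBot ℕ) ∧
      Module.finrank k (Submodule.span k {v.1, v.2}) = 2 ∧
      ∀ i, ∃ s ∈ Submodule.span k {v.1, v.2}, s ≠ 0 ∧ e i ≤ rootMultiplicity (P i) s := by
  obtain ⟨⟨⟨h1, h2⟩, h3, h4⟩, h5⟩ := mem_pairs.1 hv
  obtain ⟨g1, g2, g3⟩ := ne_zero_of_mem hP he hv hv0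
  refine ⟨Submodule.span_le.2 ?_, ?_, fun i => ?_⟩
  · rintro x (rfl | rfl)
    · exact mem_degreeLE_of h1
    · exact mem_degreeLE_of h2
  · have hli : LinearIndependent k ![v.1, v.2] := by
      rw [LinearIndependent.pair_iff' g1]
      intro a ha
      refine g2 (eq_zero_of_dvd_two hP he h2 (show (0 : Fin 3) ≠ 1 by decide) ?_ h4)
      rw [← ha, smul_eq_C_mul]
      exact h3.mul_left _
    have := finrank_span_eq_card hli
    rwa [Matrix.range_cons_cons_empty, Fintype.card_fin] at this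
  · fin_cases i
    · exact ⟨v.1, Submodule.subset_span (by simp), g1, le_of_pow_dvd g1 h3⟩
    · exact ⟨v.2, Submodule.subset_span (by simp), g2, le_of_pow_dvd g2 h4⟩
    · exact ⟨v.1 + v.2, add_mem (Submodule.subset_span (by simp)) (Submodule.subset_span (by simp)), g3, le_of_pow_dvd g3 h5⟩

theorem exists_pair {V : Submodule k k[X]} (hV : V ≤ degreeLE k (d : WithBot ℕ)) (hrk : Module.finrank k V = 2)
    (hram : ∀ i, ∃ s ∈ V, s ≠ 0 ∧ e i ≤ rootMultiplicity (P i) s) :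
    ∃ v ∈ pairs d P e, v ≠ 0 ∧ Submodule.span k {v.1, v.2} = V := by
  choose s hs hs0 hes using hram
  have hd : ∀ i, (X - C (P i)) ^ e i ∣ s i := fun i => pow_dvd_of_le (hes i)
  obtain ⟨t, -, hVt⟩ := exists_second hrk (hs 0) (hs0 0)
  have hspan : V = Submodule.span k {s 0, s 1} := by
    have hfin : FiniteDimensional k V := Module.finite_of_finrank_eq_succ hrk
    have hli : LinearIndependent k ![s 0, s 1] := by
      rw [LinearIndependent.pair_iff' (hs0 0)]
      intro a ha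
      refine hs0 1 (eq_zero_of_dvd_two hP he (natDegree_le_of_mem (hV (hs 1))) (show (0 : Fin 3) ≠ 1 by decide) ?_ (hd 1))
      rw [← ha, smul_eq_C_mul]
      exact (hd 0).mul_left _
    have h2 := finrank_span_eq_card hli
    rw [Matrix.range_cons_cons_empty, Fintype.card_fin] at h2
    exact (Submodule.eq_of_le_of_finrank_le (Submodule.span_le.2 (by
      rintro x (rfl | rfl)
      · exact hs 0
      · exact hs 1)) (by rw [hrk, h2])).symm
  obtain ⟨a, b, hab⟩ := Submodule.mem_span_pair.1 (hspan ▸ hs 2 : s 2 ∈ Submodule.span k {s 0, s 1})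
  have ha : a ≠ 0 := fun h => hs0 2 (eq_zero_of_dvd_two hP he (natDegree_le_of_mem (hV (hs 2)))
    (show (1 : Fin 3) ≠ 2 by decide) (by rw [← hab, h, zero_smul, zero_add, smul_eq_C_mul]; exact (hd 1).mul_left _) (hd 2))
  have hb : b ≠ 0 := fun h => hs0 2 (eq_zero_of_dvd_two hP he (natDegree_le_of_mem (hV (hs 2)))
    (show (0 : Fin 3) ≠ 2 by decide) (by rw [← hab, h, zero_smul, add_zero, smul_eq_C_mul]; exact (hd 0).mul_left _) (hd 2))
  refine ⟨(a • s 0, b • s 1), mem_pairs.2 ⟨⟨⟨?_, ?_⟩, ?_, ?_⟩, ?_⟩, ?_, ?_⟩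
  · exact natDegree_le_of_mem (Submodule.smul_mem _ a (hV (hs 0)))
  · exact natDegree_le_of_mem (Submodule.smul_mem _ b (hV (hs 1)))
  · show _ ∣ a • s 0
    rw [smul_eq_C_mul]; exact (hd 0).mul_left _
  · show _ ∣ b • s 1
    rw [smul_eq_C_mul]; exact (hd 1).mul_left _
  · show (X - C (P 2)) ^ e 2 ∣ a • s 0 + b • s 1
    rw [hab]; exact hd 2
  · intro h
    exact hs0 0 ((smul_eq_zero.1 (Prod.mk_eq_zero.1 h).1).resolve_left ha)
  · rw [hspan]
    show Submodule.span k {a • s 0, b • s 1} = _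
    refine le_antisymm (Submodule.span_le.2 ?_) (Submodule.span_le.2 ?_)
    · rintro x (rfl | rfl)
      · exact Submodule.smul_mem _ a (Submodule.subset_span (by simp))
      · exact Submodule.smul_mem _ b (Submodule.subset_span (by simp))
    · rintro x (rfl | rfl)
      · have := Submodule.smul_mem (Submodule.span k {a • s 0, b • s 1}) a⁻¹ (Submodule.subset_span (by simp : a • s 0 ∈ ({a • s 0, b • s 1} : Set k[X])))
        rwa [inv_smul_smul₀ ha] at this
      · have := Submodule.smul_mem (Submodule.span k {a • s 0, b • s 1}) b⁻¹ (Submodule.subset_span (by simp : b • s 1 ∈ ({a • s 0, b • s 1} : Set k[X])))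
        rwa [inv_smul_smul₀ hb] at this

theorem exists_smul {v w : k[X] × k[X]} (hv : v ∈ pairs d P e) (hw : w ∈ pairs d P e) (hv0 : v ≠ 0) (hw0 : w ≠ 0)
    (h : Submodule.span k {v.1, v.2} = Submodule.span k {w.1, w.2}) : ∃ c : k, w = c • v := by
  obtain ⟨⟨⟨h1, h2⟩, h3, h4⟩, h5⟩ := mem_pairs.1 hv
  obtain ⟨⟨⟨k1, k2⟩, k3, k4⟩, k5⟩ := mem_pairs.1 hw
  obtain ⟨g1, g2, g3⟩ := ne_zero_of_mem hP he hv hv0
  obtain ⟨α, β, hαβ⟩ := Submodule.mem_span_pair.1 (h ▸ Submodule.subset_span (by simp) : w.1 ∈ Submodule.span k {v.1, v.2})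
  obtain ⟨α', γ, hαγ⟩ := Submodule.mem_span_pair.1 (h ▸ Submodule.subset_span (by simp) : w.2 ∈ Submodule.span k {v.1, v.2})
  have hb : β • v.2 = 0 := by
    refine eq_zero_of_dvd_two hP he ((natDegree_smul_le _ _).trans h2) (show (0 : Fin 3) ≠ 1 by decide) ?_
      (by rw [smul_eq_C_mul]; exact h4.mul_left _)
    rw [eq_sub_of_add_eq' hαβ, smul_eq_C_mul]
    exact dvd_sub k3 (h3.mul_left _)
  have ha : α' • v.1 = 0 := by
    refine eq_zero_of_dvd_two hP he ((natDegree_smul_le _ _).trans h1) (show (0 : Fin 3) ≠ 1 by decide) (by rw [smul_eq_C_mul]; exact h3.mul_left _) ?_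
    rw [eq_sub_of_add_eq hαγ, smul_eq_C_mul]
    exact dvd_sub k4 (h4.mul_left _)
  rw [hb, add_zero] at hαβ
  rw [ha, zero_add] at hαγ
  have hc : (γ - α) • v.2 = 0 := by
    refine eq_zero_of_dvd_two hP he ((natDegree_smul_le _ _).trans h2) (show (1 : Fin 3) ≠ 2 by decide)
      (by rw [smul_eq_C_mul]; exact h4.mul_left _) ?_
    have : (γ - α) • v.2 = (w.1 + w.2) - α • (v.1 + v.2) := by rw [← hαβ, ← hαγ]; simp only [sub_smul, smul_add]; abel
    rw [this, smul_eq_C_mul]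
    exact dvd_sub k5 (h5.mul_left _)
  have hγ : γ = α := sub_eq_zero.1 ((smul_eq_zero.1 hc).resolve_right g2)
  exact ⟨α, Prod.ext hαβ.symm (by rw [← hαγ, hγ]; rfl)⟩

theorem cross_eq {v w : k[X] × k[X]} (hv : v ∈ pairs d P e) (hw : w ∈ pairs d P e) : v.1 * w.2 = w.1 * v.2 := by
  obtain ⟨⟨⟨h1, h2⟩, h3, h4⟩, h5⟩ := mem_pairs.1 hv
  obtain ⟨⟨⟨k1, k2⟩, k3, k4⟩, k5⟩ := mem_pairs.1 hw
  have hd0 : (X - C (P 0)) ^ e 0 ∣ v.1 * w.2 - w.1 * v.2 := dvd_sub (h3.mul_right _) (k3.mul_right _)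
  have hd1 : (X - C (P 1)) ^ e 1 ∣ v.1 * w.2 - w.1 * v.2 := dvd_sub (k4.mul_left _) (h4.mul_left _)
  have hd2 : (X - C (P 2)) ^ e 2 ∣ v.1 * w.2 - w.1 * v.2 := by
    rw [show v.1 * w.2 - w.1 * v.2 = v.1 * (w.1 + w.2) - w.1 * (v.1 + v.2) by ring]
    exact dvd_sub (k5.mul_left _) (h5.mul_left _)
  have hc : ∀ i j : Fin 3, i ≠ j → IsCoprime ((X - C (P i)) ^ e i) ((X - C (P j)) ^ e j) := fun i j hij =>
    (isCoprime_X_sub_C_of_isUnit_sub ((sub_ne_zero.2 fun h => hij (hP h)).isUnit)).pow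
  have hdvd := (IsCoprime.mul_left (hc 0 2 (by decide)) (hc 1 2 (by decide))).mul_dvd ((hc 0 1 (by decide)).mul_dvd hd0 hd1) hd2
  by_contra hne
  have h := natDegree_le_of_dvd hdvd (sub_ne_zero.2 hne)
  have hne0 : ∀ i, (X - C (P i)) ^ e i ≠ 0 := fun i => pow_ne_zero _ (X_sub_C_ne_zero _)
  rw [natDegree_mul (mul_ne_zero (hne0 0) (hne0 1)) (hne0 2), natDegree_mul (hne0 0) (hne0 1)] at h
  simp only [natDegree_pow, natDegree_X_sub_C, mul_one] at h
  have h' : (v.1 * w.2 - w.1 * v.2).natDegree ≤ 2 * d := by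
    refine (natDegree_sub_le _ _).trans (max_le ?_ ?_)
    · exact natDegree_mul_le.trans (by omega)
    · exact natDegree_mul_le.trans (by omega)
  have he2 := he.2
  rw [Fin.sum_univ_three] at he2
  omega

theorem eq_smul_of_mem_ramMaps [IsAlgClosed k] {v w : k[X] × k[X]} (hv : v ∈ pairs d P e) (hw : w ∈ pairs d P e)
    (hw0 : w ≠ 0) (hVram : Submodule.span k {v.1, v.2} ∈ ramMaps d P e) :
    Submodule.span k {w.1, w.2} = Submodule.span k {v.1, v.2} := by
  obtain ⟨⟨-, hrk, ⟨s, hs, hsd⟩, hbpf⟩, -, -⟩ := hVram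
  have hcop : IsCoprime v.1 v.2 := by
    rw [Polynomial.isCoprime_iff_aeval_ne_zero_of_isAlgClosed k k]
    intro a
    by_contra h
    push Not at h
    obtain ⟨r, hr, hra⟩ := hbpf a
    obtain ⟨α, β, rfl⟩ := Submodule.mem_span_pair.1 hr
    simp only [coe_aeval_eq_eval] at h
    rw [eval_add, eval_smul, eval_smul, h.1, h.2, smul_zero, smul_zero, add_zero] at hra
    exact hra rfl
  have hx := cross_eq hP he hv hw
  obtain ⟨⟨⟨k1, k2⟩, k3, k4⟩, k5⟩ := mem_pairs.1 hw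
  obtain ⟨g1, g2, g3⟩ := ne_zero_of_mem hP he hw hw0
  obtain ⟨q, hq⟩ : v.1 ∣ w.1 := hcop.dvd_of_dvd_mul_right ⟨w.2, hx.symm⟩
  have hv1 : v.1 ≠ 0 := fun h => g1 (by rw [hq, h, zero_mul])
  have hq2 : w.2 = v.2 * q := by
    apply mul_left_cancel₀ hv1
    rw [hx, hq]; ring
  have hq0 : q ≠ 0 := fun h => g1 (by rw [hq, h, mul_zero])
  have hdeg : q.natDegree = 0 := by
    obtain ⟨α, β, rfl⟩ := Submodule.mem_span_pair.1 hs
    have hs0 : α • v.1 + β • v.2 ≠ 0 := by
      intro h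
      rw [h, natDegree_zero] at hsd
      have := (he.1 0).1
      have := (he.1 0).2.1
      omega
    have h1 : ((α • v.1 + β • v.2) * q).natDegree ≤ d := by
      rw [add_mul, smul_mul_assoc, smul_mul_assoc, ← hq, ← hq2]
      exact (natDegree_add_le _ _).trans (max_le ((natDegree_smul_le _ _).trans k1) ((natDegree_smul_le _ _).trans k2))
    rw [natDegree_mul hs0 hq0, hsd] at h1
    omega
  obtain ⟨c, rfl⟩ : ∃ c, q = C c := ⟨_, eq_C_of_natDegree_eq_zero hdeg⟩
  have hc : c ≠ 0 := fun h => hq0 (by rw [h, map_zero])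
  rw [hq, hq2, mul_comm v.1, mul_comm v.2, ← smul_eq_C_mul, ← smul_eq_C_mul]
  refine le_antisymm (Submodule.span_le.2 ?_) (Submodule.span_le.2 ?_)
  · rintro x (rfl | rfl)
    · exact Submodule.smul_mem _ c (Submodule.subset_span (by simp))
    · exact Submodule.smul_mem _ c (Submodule.subset_span (by simp))
  · rintro x (rfl | rfl)
    · have := Submodule.smul_mem (Submodule.span k {c • v.1, c • v.2}) c⁻¹ (Submodule.subset_span (by simp : c • v.1 ∈ ({c • v.1, c • v.2} : Set k[X])))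
      rwa [inv_smul_smul₀ hc] at this
    · have := Submodule.smul_mem (Submodule.span k {c • v.1, c • v.2}) c⁻¹ (Submodule.subset_span (by simp : c • v.2 ∈ ({c • v.1, c • v.2} : Set k[X])))
      rwa [inv_smul_smul₀ hc] at this

end Groth.L13.RamP1
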