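import Groth.Agent.L13.RamP1.Basic

/-! Ramification index from the Wronskian. -/

set_option autoImplicit false

universe u

namespace Groth.L13.RamP1

open Polynomial W4c1limliniiii

variable {k : Type u} [Field k]

theorem hasRamIdx_of_wronskian (p : ℕ) [CharP k p] {d : ℕ} {F G : k[X]}
    (hV : IsPencil d (Submodule.span k {F, G})) (hW : wronskian F G ≠ 0) (a : k) {e : ℕ}
    (he : (wronskian F G).rootMultiplicity a + 1 = e) (hp : p = 0 ∨ e - 1 < p) :
    HasRamIdx (Submodule.span k {F, G}) a e ∧ ¬ p ∣ e := by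
  classical
  set V := Submodule.span k {F, G} with hVd
  obtain ⟨-, hrk, -, hbp⟩ := hV
  obtain ⟨t, htV, hta⟩ := hbp a
  have ht0 : t ≠ 0 := fun h => hta (by rw [h, eval_zero])
  obtain ⟨r, hrV, hVr⟩ := exists_second hrk htV ht0
  let s := r - C (r.eval a / t.eval a) * t
  have hsV : s ∈ V := V.sub_mem hrV (by rw [← smul_eq_C_mul]; exact V.smul_mem _ htV)
  have hsa : s.eval a = 0 := by simp [s, hta]
  have hVs : V = Submodule.span k {t, s} := by
    rw [hVr]
    refine le_antisymm (Submodule.span_le.2 ?_) (Submodule.span_le.2 ?_)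
    · rintro x (rfl | rfl)
      · exact Submodule.subset_span (by simp)
      · have e1 : x = s + (x.eval a / t.eval a) • t := by simp [s, smul_eq_C_mul]
        rw [e1]
        exact Submodule.add_mem _ (Submodule.subset_span (by simp)) (Submodule.smul_mem _ _ (Submodule.subset_span (by simp)))
    · rintro x (rfl | rfl)
      · exact Submodule.subset_span (by simp)
      · simp only [s, ← smul_eq_C_mul]
        exact Submodule.sub_mem _ (Submodule.subset_span (by simp)) (Submodule.smul_mem _ _ (Submodule.subset_span (by simp)))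
  have hw : wronskian t s ≠ 0 := by
    rw [← isSeparable_iff, ← hVs]; exact isSeparable_iff.2 hW
  have hs0 : s ≠ 0 := fun h => hw (by rw [h, wronskian_zero_right])
  obtain ⟨c, hc⟩ := exists_smul_wronskian (F := F) (G := G) htV hsV
  have hc0 : c ≠ 0 := fun h => hw (by rw [hc, h, map_zero, zero_mul])
  have hmw : (wronskian t s).rootMultiplicity a = e - 1 := by
    rw [hc, rootMultiplicity_mul (mul_ne_zero (C_ne_zero.2 hc0) hW), rootMultiplicity_C]
    omega
  obtain ⟨u, hu, hua⟩ := exists_eq_pow_rootMultiplicity_mul_and_not_dvd s hs0 a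
  set m := s.rootMultiplicity a with hm
  have hm1 : 0 < m := (rootMultiplicity_pos hs0).2 hsa
  obtain ⟨j, hj⟩ : ∃ j, m = j + 1 := ⟨m - 1, by omega⟩
  set w := t * (C ((j + 1 : ℕ) : k) * u + (X - C a) * derivative u) - derivative t * ((X - C a) * u) with hwd
  have hfac : wronskian t s = (X - C a) ^ j * w := by
    rw [hwd, wronskian, hu, hj, derivative_mul, derivative_pow, derivative_sub, derivative_X, derivative_C]
    simp only [Nat.add_sub_cancel, pow_succ]
    ring
  have hwa : w.eval a = ((j + 1 : ℕ) : k) * (t.eval a * u.eval a) := by simp [hwd]; ring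
  have hne : ((j + 1 : ℕ) : k) ≠ 0 := by
    intro h0
    have hdvd : (X - C a) ^ (j + 1) ∣ wronskian t s := by
      rw [hfac, pow_succ]
      exact mul_dvd_mul_left _ (dvd_iff_isRoot.2 (show w.eval a = 0 by rw [hwa, h0, zero_mul]))
    have h1 := le_of_pow_dvd hw hdvd
    have h2 : p ∣ j + 1 := (CharP.cast_eq_zero_iff k p _).1 h0
    rcases hp with rfl | hp
    · simp at h2
    · have := Nat.le_of_dvd (by omega) h2
      omega
  have hua' : u.eval a ≠ 0 := fun h => hua (dvd_iff_isRoot.2 h)
  have hej : e = m := by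
    have hwa' : ¬ w.IsRoot a := by
      rw [IsRoot, hwa]; exact mul_ne_zero hne (mul_ne_zero hta hua')
    have hw0 : w ≠ 0 := fun h => hwa' (by rw [h, IsRoot, eval_zero])
    rw [hfac, rootMultiplicity_mul (by rw [← hfac]; exact hw), rootMultiplicity_X_sub_C_pow,
      rootMultiplicity_eq_zero hwa'] at hmw
    omega
  refine ⟨⟨⟨s, hsV, hs0, hej.le⟩, fun x hx hx0 => ?_⟩, fun h => hne ((CharP.cast_eq_zero_iff k p _).2 (by rwa [← hj, ← hej]))⟩
  by_cases hxa : x.eval a = 0
  · rw [hVs] at hx
    obtain ⟨α, β, rfl⟩ := Submodule.mem_span_pair.1 hx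
    have hα : α = 0 := by
      simpa [hsa, hta] using hxa
    subst hα
    have hβ : β ≠ 0 := by rintro rfl; simp at hx0
    rw [zero_smul, zero_add, smul_eq_C_mul, rootMultiplicity_mul (mul_ne_zero (C_ne_zero.2 hβ) hs0),
      rootMultiplicity_C]
    omega
  · rw [rootMultiplicity_eq_zero hxa]; exact Nat.zero_le _

theorem hasRamIdxInf_of_lt {F G : k[X]} (hlt : G.natDegree < F.natDegree)
    (hV : IsPencil F.natDegree (Submodule.span k {F, G})) :
    HasRamIdxInf F.natDegree (Submodule.span k {F, G}) (F.natDegree - G.natDegree) := by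
  classical
  have hG : G ≠ 0 := by
    intro h
    have h2 := hV.2.1
    rw [h, Set.pair_comm, Submodule.span_insert_zero] at h2
    have := (finrank_span_singleton (K := k) (v := F) (by rintro rfl; simp at hlt)).symm.trans h2
    omega
  refine ⟨⟨G, Submodule.subset_span (by simp), hG, by omega⟩, fun x hx hx0 => ?_⟩
  obtain ⟨α, β, rfl⟩ := Submodule.mem_span_pair.1 hx
  rcases eq_or_ne α 0 with rfl | hα
  · have hβ : β ≠ 0 := by rintro rfl; simp at hx0
    rw [zero_smul, zero_add, natDegree_smul _ hβ]
    omega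
  · rw [natDegree_add_eq_left_of_natDegree_lt (lt_of_le_of_lt (natDegree_smul_le _ _) (by rwa [natDegree_smul _ hα])),
      natDegree_smul _ hα]
    omega

end Groth.L13.RamP1
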